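import Cfsg.Prelude.Def_ChevStructure

/-!
Orders of the two centralisers differ in their power of the field order.
-/

set_option autoImplicit false

namespace CfsgLib.Chevalley.OddInvolution

theorem pow_mul_ne {q a b : ℕ} (hq : 1 < q) (hab : a < b) (P : ℕ) {l : List ℕ} (hl : ∀ d ∈ l, 0 < d) :
    q ^ b * P ≠ q ^ a * (l.map fun d => q ^ d - 1).prod := by
  intro h
  rw [show b = a + (b - a) by omega, pow_add, mul_assoc] at h
  have h1 := Nat.eq_of_mul_eq_mul_left (pow_pos (by omega) a) h
  have hc : Nat.Coprime q (l.map fun d => q ^ d - 1).prod := by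
    clear h1 h
    induction l with
    | nil => simp
    | cons d l ih =>
      rw [List.map_cons, List.prod_cons]
      refine Nat.Coprime.mul_right ?_ (ih fun e he => hl e (List.mem_cons_of_mem _ he))
      have h2 : (q ^ d - 1).Coprime (q ^ d - 1 + 1) := by simp
      rw [Nat.sub_add_cancel (Nat.one_le_pow _ _ (by omega))] at h2
      exact ((Nat.coprime_pow_right_iff (hl d List.mem_cons_self) _ _).1 h2).symm
  have hd : q ∣ (l.map fun d => q ^ d - 1).prod := by
    rw [← h1]; exact Dvd.dvd.mul_right (dvd_pow_self q (by omega)) P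
  have := Nat.eq_one_of_dvd_coprimes hc dvd_rfl hd
  omega

end CfsgLib.Chevalley.OddInvolution
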