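import Cfsg.Agent.Lib.Chevalley.ToralCentralizer

/-!
The order of the centraliser of a torus element as a polynomial in the field order: the roots with
trivial value give the unipotent parts.
-/

set_option autoImplicit false

namespace CfsgLib.Chevalley.OddInvolution

open Tbl CoxeterTorus ToralCentralizer

variable {T : Tbl} (hT : T.Valid) (hC : T.chkComm = true) {F : Type*} [Field F]
include hT hC

theorem xU_fixed_mem (f : Fin T.rank → Fˣ) {r : ℕ} (hr : r < T.n) {a : F}
    (h : (tCh T f r : F) * a = a) {Q : ℕ → Prop} (hQ : tCh T f r = 1 → Q r) :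
    T.xU F r a ∈ T.rootGen F Q := by
  by_cases ha : a = 0
  · rw [ha, xU_zero hT hr]; exact one_mem _
  · refine xU_mem_rootGen hr (hQ (Units.ext (mul_right_cancel₀ ha ?_))) a
    rw [h, Units.val_one, one_mul]

/-- The centraliser of a torus element in the group of a closed set of positive roots. -/
theorem rootCent_eq (f : Fin T.rank → Fˣ) {P : ℕ → Prop} (hP : T.Closed P)
    (hpos : ∀ r < T.n, P r → T.half ≤ r) :
    rootCent T f P = T.rootGen F fun r => P r ∧ tCh T f r = 1 := by
  classical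
  set t := torusHom T F f with ht
  refine le_antisymm ?_ (le_inf (rootGen_mono fun r _ h => h.1) (rootGen_le fun r hr h a => ?_))
  · suffices h : ∀ m k, k + m = T.n → T.half ≤ k → ∀ g ∈ T.rootGen F (fun r => P r ∧ k ≤ r),
        t * g * t⁻¹ = g → g ∈ T.rootGen F fun r => P r ∧ tCh T f r = 1 by
      intro g hg
      refine h T.half T.half (Nat.two_mul _).symm le_rfl g
        (rootGen_mono (fun r hr h => ⟨h, hpos r hr h⟩) hg.1) ?_
      rw [← Subgroup.mem_centralizer_singleton_iff.1 hg.2, mul_inv_cancel_right]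
    intro m
    induction m with
    | zero =>
      intro k hk _ g hg _
      exact (rootGen_le fun r hr h => by omega :
        T.rootGen F (fun r => P r ∧ k ≤ r) ≤ T.rootGen F fun r => P r ∧ tCh T f r = 1) hg
    | succ m ih =>
      intro k hkm hk g hg hfix
      have hkn : k < T.n := by omega
      by_cases hPk : P k
      · obtain ⟨a, g', hg', rfl⟩ := mem_closed_split hT hC hP hk hkn hPk hg
        have hg'2 : t * g' * t⁻¹ ∈ T.rootGen F (fun r => P r ∧ k + 1 ≤ r) :=
          (Subgroup.mem_normalizer_iff.mp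
            (diag_le_normalizer hT _ (torus_diag hT f)) g').mp hg'
        have hsub : T.rootGen F (fun r => P r ∧ k + 1 ≤ r) ≤ T.rootGen F (fun r => k + 1 ≤ r) :=
          rootGen_mono fun _ _ h => h.2
        have e : t * (T.xU F k a * g') * t⁻¹ = T.xU F k ((tCh T f k : F) * a) * (t * g' * t⁻¹) := by
          rw [← mul_assoc t, ht, torus_xU hT f ⟨k, hkn⟩]
          group
        rw [e] at hfix
        obtain ⟨h1, h2⟩ := xU_mul_inj hT hC hk hkn (hsub hg'2) (hsub hg') hfix
        exact mul_mem (xU_fixed_mem hT hC f hkn h1 fun h => ⟨hPk, h⟩)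
          (ih (k + 1) (by omega) (by omega) g' hg' h2)
      · refine ih (k + 1) (by omega) (by omega) g (rootGen_mono (fun r _ h => ⟨h.1, ?_⟩) hg) hfix
        rcases Nat.lt_or_ge k r with h' | h'
        · exact h'
        · exact absurd (show P k by rw [show k = r by omega]; exact h.1) hPk
  · refine Subgroup.mem_centralizer_singleton_iff.2 ?_
    rw [torus_xU hT f ⟨r, hr⟩]
    simp [h.2]

theorem card_rootCent [Fintype F] (f : Fin T.rank → Fˣ) {P : ℕ → Prop} (hP : T.Closed P)
    (hpos : ∀ r < T.n, P r → T.half ≤ r) [DecidablePred fun r => P r ∧ tCh T f r = 1] :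
    Nat.card (rootCent T f P) =
      Fintype.card F ^ ((Finset.Ico T.half T.n).filter fun r => P r ∧ tCh T f r = 1).card := by
  have hQ : T.Closed fun r => P r ∧ tCh T f r = 1 := by
    intro r hr s hs h1 h2 hne hneg c hc
    refine ⟨hP r hr s hs h1.1 h2.1 hne hneg c hc, ?_⟩
    show tCh T f (⟨c.1, commT_lt hT hr hs c hc⟩ : Fin T.n).val = 1
    have e1 := tCh_linear hT f ⟨r, hr⟩
    have e2 := tCh_linear hT f ⟨s, hs⟩
    rw [h1.2] at e1
    rw [h2.2] at e2
    rw [tCh_linear hT, Finset.prod_congr rfl fun j _ => by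
      rw [(commT_co hT hr hs c hc).2.2 j.val j.2, _root_.zpow_add, mul_comm (c.2.2.1 : ℤ),
        mul_comm (c.2.2.2 : ℤ), _root_.zpow_mul, _root_.zpow_mul], Finset.prod_mul_distrib,
      Finset.prod_zpow, Finset.prod_zpow, ← e1, ← e2, _root_.one_zpow, _root_.one_zpow, mul_one]
  rw [rootCent_eq hT hC f hP hpos,
    ← card_closed hT hC hQ T.half T.half (Nat.two_mul _).symm le_rfl]
  rw [rootGen_congr (P := fun r => P r ∧ tCh T f r = 1)
    (Q := fun r => (P r ∧ tCh T f r = 1) ∧ T.half ≤ r)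
    fun r hr => ⟨fun h => ⟨h, hpos r hr h.1⟩, fun h => h.1⟩]

omit hT hC in
/-- The roots with trivial value made negative by `w`. -/
def fixInv [DecidableEq F] (f : Fin T.rank → Fˣ) (w : Equiv.Perm (Fin T.n)) : ℕ :=
  (Finset.univ.filter fun s : Fin T.n =>
    T.half ≤ s.val ∧ tCh T f s.val = 1 ∧ (w s).val < T.half).card

omit hT hC in
/-- The positive roots with trivial value. -/
def fixPos [DecidableEq F] (f : Fin T.rank → Fˣ) : ℕ :=
  (Finset.univ.filter fun s : Fin T.n => T.half ≤ s.val ∧ tCh T f s.val = 1).card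

omit hT hC in
theorem card_filter_fin (P : ℕ → Prop) [DecidablePred P]
    (Q : Fin T.n → Prop) [DecidablePred Q] (h : ∀ s : Fin T.n, Q s ↔ T.half ≤ s.val ∧ P s.val) :
    ((Finset.Ico T.half T.n).filter P).card = (Finset.univ.filter Q).card := by
  refine (Finset.card_bij (fun s _ => s.val) (fun s hs => ?_) (fun a _ b _ h => Fin.ext h)
    (fun r hr => ?_)).symm
  · have := (h s).1 (Finset.mem_filter.1 hs).2
    rw [Finset.mem_filter, Finset.mem_Ico]
    exact ⟨⟨this.1, s.2⟩, this.2⟩
  · rw [Finset.mem_filter, Finset.mem_Ico] at hr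
    exact ⟨⟨r, hr.1.2⟩, Finset.mem_filter.2 ⟨Finset.mem_univ _, (h _).2 ⟨hr.1.1, hr.2⟩⟩, rfl⟩

theorem card_cent [Fintype F] [DecidableEq F] (f : Fin T.rank → Fˣ)
    [Fintype ↥(fixW (K := F) hT f)] :
    Nat.card ↥(T.datum.group F ⊓ Subgroup.centralizer {torusHom T F f}) =
      Fintype.card F ^ fixPos f * Nat.card (T.datum.diagonalSubgroup F) *
        ∑ w : ↥(fixW (K := F) hT f), Fintype.card F ^ fixInv f (w : Equiv.Perm (Fin T.n)) := by
  classical
  rw [card_centralizer hT hC f]
  congr 1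
  · congr 1
    rw [card_rootCent hT hC f (P := fun r => T.half ≤ r)
      (fun r hr s hs h1 h2 _ _ c hc => le_of_lt (lt_of_le_of_lt h1 (commT_gt hT hr hs h1 h2 c hc).1))
      (fun _ _ h => h)]
    congr 1
    exact card_filter_fin (T := T) _ _ fun s => ⟨fun h => ⟨h.1, h.1, h.2⟩, fun h => ⟨h.1, h.2.2⟩⟩
  · refine Finset.sum_congr rfl fun w _ => ?_
    rw [card_rootCent hT hC f (closed_negSet hT w.2.1) (fun r _ h => h.2.1)]
    congr 1
    refine card_filter_fin (T := T) _ _ fun s => ⟨fun h => ⟨h.1, ⟨s.2, h.1, h.2.2⟩, h.2.1⟩, fun h => ?_⟩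
    exact ⟨h.1, h.2.2, h.2.1.2.2⟩

end CfsgLib.Chevalley.OddInvolution
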