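import Cfsg.Agent.Lib.Chevalley.CommCheck

/-!
Certificates for the reduction of monomial involutions.
-/

set_option autoImplicit false

namespace CfsgLib.Chevalley.OddInvolution

variable (T : Tbl)

/-- The image of a root under a word in the fundamental `n`'s, and whether the sign is `-1`. -/
def sgnW : List ℕ → ℕ → ℕ × Bool
  | [], s => (s, false)
  | i :: l, s =>
    let p := sgnW l s
    (T.refl i p.1, xor p.2 (decide (T.eta i p.1 = -1)))

theorem sgnW_nil (s : ℕ) : sgnW T [] s = (s, false) := rfl

theorem sgnW_cons (i : ℕ) (l : List ℕ) (s : ℕ) : sgnW T (i :: l) s =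
    (T.refl i (sgnW T l s).1, xor (sgnW T l s).2 (decide (T.eta i (sgnW T l s).1 = -1))) := rfl

/-- A single commutator term of first degree. -/
def chkTerm (l : List (ℕ × ℤ × ℕ × ℕ)) (k : ℕ) (N : ℤ) : Bool :=
  decide (l = [(k, N, 1, 1)])

/-- The conditions of an `A₂` on two fundamental roots. -/
def chkA2 (i j : ℕ) : Bool :=
  match T.sum? (T.simple i) (T.simple j) with
  | none => false
  | some (k, N) =>
    Nat.blt i T.rank && Nat.blt j T.rank && Nat.blt k T.n && Nat.ble T.half k &&
    allLt (fun l => decide (T.co k l = T.co (T.simple i) l + T.co (T.simple j) l)) T.rank &&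
    decide (N * N = 1) &&
    chkTerm (T.commT (T.simple i) (T.simple j)) k N &&
    chkTerm (T.commT (T.neg (T.simple i)) (T.neg (T.simple j))) (T.neg k) (-N) &&
    decide (T.pair k (T.simple i) = 1) &&
    (T.commT (T.neg k) (T.simple i)).all (fun c => decide (c.1 = T.neg (T.simple j))) &&
    (T.commT (T.neg (T.simple j)) (T.simple i)).isEmpty &&
    (T.commT (T.neg (T.simple i)) k).all (fun c => decide (c.1 = T.simple j)) &&
    decide (T.simple i ≠ T.neg (T.neg k) ∧ T.simple i ≠ T.neg k) &&
    decide (T.simple i ≠ T.neg (T.neg (T.simple j)) ∧ T.simple i ≠ T.neg (T.simple j)) &&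
    decide (T.simple j ≠ T.simple i ∧ T.simple j ≠ T.neg (T.simple i)) &&
    decide (T.refl j k = T.simple i)

/-- Roots are determined by their coordinates. -/
def chkCoInj : Bool :=
  allLt (fun r => allLt (fun s => Nat.beq r s ||
    (List.range T.rank).any fun j => !decide (T.co r j = T.co s j)) T.n) T.n

/-- The root `s` contradicts the existence of a monomial involution all of whose scalars on `J` are
non-squares, when `-1` is a square (`σ = 0`) or not (`σ = 1`). -/
def chkWit (l : List ℕ) (mask : ℕ) (σ : ℤ) (s : ℕ) : Bool :=
  let p := sgnW T l s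
  let q := sgnW T l p.1
  allLt (fun j => mask.testBit j || decide ((T.co s j + T.co p.1 j) % 2 = 0)) T.rank &&
  decide ((((List.range T.rank).map fun i =>
      bif mask.testBit i then
        (T.co s i + T.co p.1 i) *
          (1 + (bif (sgnW T l (T.simple i)).2 then σ else 0))
      else 0).sum
    - ((bif p.2 then σ else 0) + (bif q.2 then σ else 0))) % 2 = 1)

/-- The word of `J` negates `J` and involves nothing else, and both parities are impossible. -/
def chkParity (l : List ℕ) (mask : ℕ) : Bool :=
  l.all (fun i => Nat.blt i T.rank && mask.testBit i) &&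
  allLt (fun i => !mask.testBit i ||
    decide ((sgnW T l (T.simple i)).1 = T.neg (T.simple i))) T.rank &&
  (List.range T.n).any (chkWit T l mask 0) && (List.range T.n).any (chkWit T l mask 1)

/-- Each set of fundamental roots contains an `A₂` or is impossible. -/
def chkMask (special : List (ℕ × List ℕ)) (mask : ℕ) : Bool :=
  Nat.beq mask 0 ||
  (List.range T.rank).any (fun i => (List.range T.rank).any fun j =>
    mask.testBit i && mask.testBit j && chkA2 T i j) ||
  chkParity T ((special.lookup mask).getD ((List.range T.rank).filter mask.testBit)) mask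

end CfsgLib.Chevalley.OddInvolution
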