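import Cfsg.Agent.Lib.Chevalley.OddInvolution.Monomial

/-!
The longest element, opposite cells, and the measures used to shorten the Weyl element of an
involution.
-/

set_option autoImplicit false

namespace CfsgLib.Chevalley.OddInvolution

open Tbl

variable {T : Tbl} {F : Type*} [Field F]

theorem ToMono.conj {g g' x : GL T.I F} {w : Equiv.Perm (Fin T.n)} (hx : x ∈ T.datum.group F)
    (e : x * g * x⁻¹ = g') (h : ToMono T g' w) : ToMono T g w := by
  obtain ⟨y, hy, m, hm, h1, h2, e2⟩ := h
  refine ⟨y * x, mul_mem hy hx, m, hm, h1, h2, ?_⟩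
  rw [← e2, ← e]; group

/-- The number of roots negated by `w`. -/
def negCount (T : Tbl) (w : Equiv.Perm (Fin T.n)) : ℕ :=
  (Finset.univ.filter fun s : Fin T.n => w s = T.negF s).card

variable (hT : T.Valid)
include hT

theorem WP_pos_combination {v : Equiv.Perm (Fin T.n)} (hv : v ∈ T.WP hT)
    (h : ∀ i : Fin T.rank, (v (T.simpF hT i)).val < T.half) {s : Fin T.n} (hs : T.half ≤ s.val) :
    (v s).val < T.half := by
  refine lt_half_of_co_nonpos hT (v s).2 fun j hj => ?_
  rw [WP_linear hT hv s hj]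
  exact Finset.sum_nonpos fun i _ =>
    mul_nonpos_of_nonneg_of_nonpos (co_nonneg' hT hs i.2) (co_nonpos' hT (h i) hj)

theorem exists_longest : ∃ v ∈ T.WP hT, ∀ s : Fin T.n,
    (T.half ≤ s.val → (v s).val < T.half) ∧ (s.val < T.half → T.half ≤ (v s).val) := by
  classical
  obtain ⟨w, hw, hmax⟩ := Finset.exists_max_image (Finset.univ.filter (· ∈ T.WP hT)) T.invN
    ⟨1, by simp⟩
  simp only [Finset.mem_filter, Finset.mem_univ, true_and] at hw hmax
  have hneg : ∀ i : Fin T.rank, (w⁻¹ (T.simpF hT i)).val < T.half := by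
    intro i
    by_contra hge
    have h1 := invN_refP_mul hT hw i (r := w⁻¹ (T.simpF hT i)) (not_lt.mp hge) (w.apply_symm_apply _)
    have h2 := hmax (T.refP hT i * w) (mul_mem (Subgroup.subset_closure ⟨i, rfl⟩) hw)
    omega
  refine ⟨w⁻¹, inv_mem hw, fun s => ⟨fun hs => WP_pos_combination hT (inv_mem hw) hneg hs, fun hs => ?_⟩⟩
  have h1 := WP_pos_combination hT (inv_mem hw) hneg (s := T.negF s) (le_negF hs)
  rw [WP_negF hT (inv_mem hw)] at h1
  by_contra hlt
  exact absurd (le_negF (not_le.mp hlt)) (not_le.mpr h1)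

theorem negCount_conj {v : Equiv.Perm (Fin T.n)} (hv : v ∈ T.WP hT) (w : Equiv.Perm (Fin T.n)) :
    negCount T (v * w * v⁻¹) = negCount T w := by
  refine (Finset.card_bij (fun s _ => v s) (fun s hs => ?_) (fun a _ b _ h => v.injective h)
    (fun y hy => ⟨v⁻¹ y, ?_, v.apply_symm_apply y⟩)).symm
  · simp only [Finset.mem_filter, Finset.mem_univ, true_and] at hs ⊢
    simp [hs, WP_negF hT hv]
  · refine Finset.mem_filter.mpr ⟨Finset.mem_univ _, v.injective ?_⟩
    have h := (Finset.mem_filter.mp hy).2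
    rw [Equiv.Perm.mul_apply, Equiv.Perm.mul_apply] at h
    rw [h, WP_negF hT hv, show v (v⁻¹ y) = y from v.apply_symm_apply y]

theorem refl_of_ca_zero {i s : ℕ} (hi : i < T.rank) (hs : s < T.n) (h : T.ca i s = 0) :
    T.refl i s = s := by
  have h2 : T.ca i (T.simple i) = 2 := by
    rw [← pair_simple hT hi (T.simple i), pair_self hT (simple_lt hT hi)]
  have b1 : Nat.beq s (T.simple i) = false := Bool.eq_false_iff.mpr fun e => by
    rw [Nat.eq_of_beq_eq_true e, h2] at h; omega
  have b2 : Nat.beq s (T.neg (T.simple i)) = false := Bool.eq_false_iff.mpr fun e => by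
    rw [Nat.eq_of_beq_eq_true e, ca_neg hT (simple_lt hT hi) hi, h2] at h; omega
  simp [Tbl.refl, b1, b2, h]

theorem co_of_eq_neg {s t : Fin T.n} (h : s = T.negF t) {j : ℕ} (hj : j < T.rank) :
    T.co s.val j = -T.co t.val j := by
  subst h
  exact co_neg hT t.2 hj

/-- Removing a negated fundamental root lowers the count. -/
theorem negCount_refP_mul {w : Equiv.Perm (Fin T.n)} (hw : w ∈ T.WP hT) (hww : w * w = 1)
    {i : Fin T.rank} (hi : w (T.simpF hT i) = T.negF (T.simpF hT i)) :
    negCount T (T.refP hT i * w) < negCount T w := by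
  have hwi : ∀ j : Fin T.rank, T.co (w (T.simpF hT i)).val j.val = -(if j.val = i.val then 1 else 0) :=
    fun j => by rw [co_of_eq_neg hT hi j.2, co_simpF hT i j.2]
  have hsub : ∀ r : Fin T.n, (T.refP hT i * w) r = T.negF r → w r = T.negF r := by
    intro r hr
    have h1 : w r = T.refP hT i (T.negF r) := by
      rw [← hr, Equiv.Perm.mul_apply, ← Equiv.Perm.mul_apply, refP_mul_self]; rfl
    set k := T.ca i r.val with hk
    have hco : ∀ j : Fin T.rank,
        T.co (w r).val j.val = -T.co r.val j.val + (if j.val = i.val then k else 0) := by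
      intro j
      rw [h1, refP_apply, co_refl hT i.2 (T.negF r).2 j.2]
      show T.co (T.neg r.val) j.val - (if j.val = i.val then T.ca i.val (T.neg r.val) else 0) = _
      rw [co_neg hT r.2 j.2, ca_neg hT r.2 i.2, ← hk]
      split <;> ring
    have h2 : w (w r) = r := by rw [← Equiv.Perm.mul_apply, hww]; rfl
    have h3 := WP_linear hT hw (w r) i.2
    rw [h2, Finset.sum_congr rfl fun j _ => by rw [hco j, add_mul, neg_mul]] at h3
    rw [Finset.sum_add_distrib, Finset.sum_neg_distrib, ← WP_linear hT hw r i.2,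
      Finset.sum_eq_single i, if_pos rfl, hwi i, hco i, if_pos rfl, if_pos rfl] at h3
    · have hk0 : k = 0 := by linarith
      rw [h1]
      refine Fin.ext (refl_of_ca_zero hT i.2 (T.negF r).2 ?_)
      show T.ca i.val (T.neg r.val) = 0
      rw [ca_neg hT r.2 i.2, ← hk, hk0, neg_zero]
    · intro j _ hj
      rw [if_neg fun e => hj (Fin.ext e), zero_mul]
    · simp
  refine Finset.card_lt_card ⟨fun r hr => ?_, fun hsub' => ?_⟩
  · simp only [Finset.mem_filter, Finset.mem_univ, true_and] at hr ⊢
    exact hsub r hr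
  · have hmem : T.simpF hT i ∈ Finset.univ.filter fun s : Fin T.n => w s = T.negF s := by
      simp [hi]
    have h7 := (Finset.mem_filter.mp (hsub' hmem)).2
    rw [Equiv.Perm.mul_apply, hi,
      WP_negF hT (Subgroup.subset_closure ⟨i, rfl⟩ : T.refP hT i ∈ T.WP hT), refP_simpF, negF_negF] at h7
    have h4 := congrArg Fin.val h7
    have h5 := negF_lt (half_le_simpF hT i)
    have h6 := half_le_simpF hT i
    rw [← h4] at h5
    omega

theorem invN_inv {w : Equiv.Perm (Fin T.n)} (hw : w ∈ T.WP hT) : T.invN w⁻¹ = T.invN w := by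
  refine (Finset.card_bij (fun s _ => T.negF (w s)) (fun s hs => ?_) (fun a _ b _ h => ?_)
    (fun y hy => ?_)).symm
  · simp only [Finset.mem_filter, Finset.mem_univ, true_and] at hs ⊢
    refine ⟨le_negF hs.2, ?_⟩
    rw [WP_negF hT (inv_mem hw), show w⁻¹ (w s) = s from w.symm_apply_apply s]
    exact negF_lt hs.1
  · have := congrArg T.negF h
    rw [negF_negF, negF_negF] at this
    exact w.injective this
  · simp only [Finset.mem_filter, Finset.mem_univ, true_and] at hy ⊢
    refine ⟨w⁻¹ (T.negF y), ⟨?_, ?_⟩, ?_⟩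
    · rw [WP_negF hT (inv_mem hw)]; exact le_negF hy.2
    · rw [show w (w⁻¹ (T.negF y)) = T.negF y from w.apply_symm_apply _]
      exact negF_lt hy.1
    · rw [show w (w⁻¹ (T.negF y)) = T.negF y from w.apply_symm_apply _, negF_negF]

/-- Every involution of the reflection group is conjugate to one negating each fundamental root
that it makes negative. -/
theorem exists_balanced {w : Equiv.Perm (Fin T.n)} (hw : w ∈ T.WP hT) (hww : w * w = 1) :
    ∃ v ∈ T.WP hT, ∀ i : Fin T.rank, ((v * w * v⁻¹) (T.simpF hT i)).val < T.half →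
      (v * w * v⁻¹) (T.simpF hT i) = T.negF (T.simpF hT i) := by
  suffices h : ∀ k, ∀ w ∈ T.WP hT, w * w = 1 → T.invN w ≤ k →
      ∃ v ∈ T.WP hT, ∀ i : Fin T.rank, ((v * w * v⁻¹) (T.simpF hT i)).val < T.half →
        (v * w * v⁻¹) (T.simpF hT i) = T.negF (T.simpF hT i) from h _ w hw hww le_rfl
  intro k
  induction k with
  | zero =>
    intro w hw _ hk
    refine ⟨1, one_mem _, fun i hi => absurd ?_ (not_le.mpr hi)⟩
    simp only [one_mul, inv_one, mul_one]
    by_contra h
    have : 0 < T.invN w := Finset.card_pos.mpr ⟨T.simpF hT i, by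
      simp only [Finset.mem_filter, Finset.mem_univ, true_and]
      exact ⟨half_le_simpF hT i, not_le.mp h⟩⟩
    omega
  | succ k ih =>
    intro w hw hww hk
    by_cases hgood : ∀ i : Fin T.rank, (w (T.simpF hT i)).val < T.half →
        w (T.simpF hT i) = T.negF (T.simpF hT i)
    · exact ⟨1, one_mem _, by simpa using hgood⟩
    push Not at hgood
    obtain ⟨i, hneg, hne⟩ := hgood
    have hP : T.refP hT i ∈ T.WP hT := Subgroup.subset_closure ⟨i, rfl⟩
    have hinv : w⁻¹ = w := inv_eq_of_mul_eq_one_right hww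
    have hwa : ∀ s, w (w s) = s := fun s => by rw [← Equiv.Perm.mul_apply, hww]; rfl
    have e1 : T.invN w = T.invN (T.refP hT i * w) + 1 := by
      have h := invN_refP_mul hT (mul_mem hP hw) i (r := T.negF (w (T.simpF hT i))) (le_negF hneg) (by
        rw [Equiv.Perm.mul_apply, WP_negF hT hw, hwa, WP_negF hT hP, refP_simpF, negF_negF])
      rwa [← mul_assoc, refP_mul_self, one_mul] at h
    set w' := T.refP hT i * w * T.refP hT i with hw'
    have hw'm : w' ∈ T.WP hT := mul_mem (mul_mem hP hw) hP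
    have e2 : T.invN (w * T.refP hT i) = T.invN w' + 1 := by
      have hr : T.half ≤ (T.negF (T.refP hT i (w (T.simpF hT i)))).val := by
        refine le_negF ?_
        by_contra hge
        have h1 := not_lt.mp hge
        have hne' : T.negF (w (T.simpF hT i)) ≠ T.simpF hT i := fun e => hne
          ((negF_negF _).symm.trans (congrArg T.negF e))
        have h2 := refP_pos hT (i := i) (le_negF hneg) hne'
        rw [WP_negF hT hP] at h2
        exact absurd h2 (not_le.mpr (negF_lt h1))
      have h := invN_refP_mul hT hw'm i hr (by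
        simp only [hw', Equiv.Perm.mul_apply]
        rw [WP_negF hT hP, WP_negF hT hw, WP_negF hT hP, ← Equiv.Perm.mul_apply (T.refP hT i)
          (T.refP hT i), refP_mul_self, Equiv.Perm.one_apply, hwa, refP_simpF, negF_negF])
      rwa [hw', ← mul_assoc, ← mul_assoc, refP_mul_self, one_mul] at h
    have e3 : T.invN (w * T.refP hT i) = T.invN (T.refP hT i * w) := by
      rw [← invN_inv hT (mul_mem hP hw), _root_.mul_inv_rev, refP_inv, hinv]
    obtain ⟨v, hv, hvg⟩ := ih w' hw'm (by
      rw [hw', show T.refP hT i * w * T.refP hT i * (T.refP hT i * w * T.refP hT i) =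
        T.refP hT i * w * (T.refP hT i * T.refP hT i) * (w * T.refP hT i) by group, refP_mul_self,
        mul_one, mul_assoc, ← mul_assoc w w, hww, one_mul, refP_mul_self]) (by omega)
    refine ⟨v * T.refP hT i, mul_mem hv hP, ?_⟩
    have e : v * T.refP hT i * w * (v * T.refP hT i)⁻¹ = v * w' * v⁻¹ := by
      rw [hw', _root_.mul_inv_rev, refP_inv]; group
    rwa [e]

variable (hC : T.chkComm = true)
include hC

/-- An involution in a cell of the opposite Borel subgroup. -/
theorem toMono_of_negCell [Fintype F] (h2 : Odd (Fintype.card F)) {g a n b : GL T.I F}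
    {w : Equiv.Perm (Fin T.n)} (hg : g * g = 1) (ha : a ∈ T.rootGen F (fun r => r < T.half))
    (hb : b ∈ T.rootGen F (fun r => r < T.half)) (hn : n ∈ T.datum.monomialSubgroup F)
    (hm : T.Mono n w) (e : g = a * n * b) :
    ∃ v ∈ T.WP hT, ToMono T g (v * w * v⁻¹) := by
  obtain ⟨v, hv, hvs⟩ := exists_longest hT
  obtain ⟨l, rfl⟩ := exists_pw hT hv
  set n0 := T.nw F l with hn0
  have hn0N : n0 ∈ T.datum.monomialSubgroup F := nw_mem hT l
  have hn0m : T.Mono n0 (T.pw hT l) := mono_nw hT l
  have hflip : ∀ {x : GL T.I F}, x ∈ T.rootGen F (fun r => r < T.half) →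
      n0 * x * n0⁻¹ ∈ T.datum.borelSubgroup F := fun {x} hx =>
    posU_le_borel hT (fun r h => h)
      (conj_mem_rootGen hT hn0m (Q := fun r => T.half ≤ r) (fun s h => (hvs s).2 h) hx)
  refine ⟨T.pw hT l, hv, ToMono.conj (monomial_le_group hT hn0N) rfl ?_⟩
  refine toMono_of_cell hT hC h2 ?_ (hflip ha) (hflip hb) (mul_mem (mul_mem hn0N hn) (inv_mem hn0N))
    ((hn0m.mul hm).mul hn0m.inv) (by rw [e]; group)
  calc n0 * g * n0⁻¹ * (n0 * g * n0⁻¹) = n0 * (g * g) * n0⁻¹ := by group
    _ = 1 := by rw [hg]; group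

end CfsgLib.Chevalley.OddInvolution
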