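import Cfsg.Agent.Lib.Chevalley.OddInvolution.Main
import Cfsg.Agent.Lib.Chevalley.OddInvolution.Arith
import Cfsg.Agent.Lib.Chevalley.OddInvolution.Data.F4B4
import Cfsg.Agent.Lib.Chevalley.OddInvolution.Data.F4C3A1
import Cfsg.Agent.Lib.Chevalley.Tables
import Cfsg.Agent.Lib.Chevalley.Data.SmithCerts
import Cfsg.Agent.Lib.Chevalley.CoxeterTorus.Instances

/-!
The classes of involutions of F4 in odd characteristic.
-/

set_option autoImplicit false
set_option maxRecDepth 20000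

namespace CfsgLib.Chevalley.OddInvolution.F4

open Tbl

theorem inj : chkCoInj CfsgLib.Chevalley.Data.F4.tbl = true := by decide +kernel

theorem masks : allLt (chkMask CfsgLib.Chevalley.Data.F4.tbl [(6, [1, 2, 1, 2])]) (2 ^ CfsgLib.Chevalley.Data.F4.tbl.rank) = true := by
  decide +kernel

theorem cert : Cert CfsgLib.Chevalley.Data.F4.tbl [(6, [1, 2, 1, 2])] :=
  ⟨CfsgLib.Chevalley.Data.F4.valid, CfsgLib.Chevalley.Data.F4.chkComm, inj, masks⟩

theorem index_F4B4 : Nat.card ↥(CfsgLib.Chevalley.Data.F4.tbl.WP CfsgLib.Chevalley.Data.F4.valid) =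
    Data.F4B4.cls.orbit.length * Nat.card ↥(Data.F4B4.tbl.WP Data.F4B4.valid) :=
  Int.natCast_inj.mp (by
    rw [Nat.cast_mul, CoxeterTorus.F4_card_WP,
      (card_WP Data.F4B4.valid (steps := Data.F4B4.steps) rfl Data.F4B4.chkSteps).trans Data.F4B4.card_WP]
    rfl)

theorem ok_F4B4 : Ok' CfsgLib.Chevalley.Data.F4.tbl CfsgLib.Chevalley.Data.F4.valid Data.F4B4.cls Data.F4B4.steps Data.F4B4.degs :=
  ⟨⟨Data.F4B4.valid, rfl, by decide +kernel, by decide +kernel, by decide +kernel, by decide +kernel⟩,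
    index_F4B4, rfl, Data.F4B4.chkSteps, Data.F4B4.poly⟩

theorem index_F4C3A1 : Nat.card ↥(CfsgLib.Chevalley.Data.F4.tbl.WP CfsgLib.Chevalley.Data.F4.valid) =
    Data.F4C3A1.cls.orbit.length * Nat.card ↥(Data.F4C3A1.tbl.WP Data.F4C3A1.valid) :=
  Int.natCast_inj.mp (by
    rw [Nat.cast_mul, CoxeterTorus.F4_card_WP,
      (card_WP Data.F4C3A1.valid (steps := Data.F4C3A1.steps) rfl Data.F4C3A1.chkSteps).trans Data.F4C3A1.card_WP]
    rfl)

theorem ok_F4C3A1 : Ok' CfsgLib.Chevalley.Data.F4.tbl CfsgLib.Chevalley.Data.F4.valid Data.F4C3A1.cls Data.F4C3A1.steps Data.F4C3A1.degs :=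
  ⟨⟨Data.F4C3A1.valid, rfl, by decide +kernel, by decide +kernel, by decide +kernel, by decide +kernel⟩,
    index_F4C3A1, rfl, Data.F4C3A1.chkSteps, Data.F4C3A1.poly⟩

theorem cover : chkCover CfsgLib.Chevalley.Data.F4.tbl Data.F4B4.cls Data.F4C3A1.cls = true := by decide +kernel

theorem classes {F : Type*} [Field F] [Fintype F] (hF : Odd (Fintype.card F)) :
    ∃ s t : ↥(Cfsg.Lie.chevF4.group F), orderOf s = 2 ∧ orderOf t = 2 ∧ ¬ IsConj s t ∧
      (∀ u : ↥(Cfsg.Lie.chevF4.group F), orderOf u = 2 → IsConj u s ∨ IsConj u t) ∧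
      Nat.card (Subgroup.centralizer ({s} : Set ↥(Cfsg.Lie.chevF4.group F))) =
        Fintype.card F ^ Data.F4B4.tbl.half * (Data.F4B4.degs.map fun e => Fintype.card F ^ e - 1).prod ∧
      Nat.card (Subgroup.centralizer ({t} : Set ↥(Cfsg.Lie.chevF4.group F))) =
        Fintype.card F ^ Data.F4C3A1.tbl.half * (Data.F4C3A1.degs.map fun e => Fintype.card F ^ e - 1).prod := by
  refine two_classes cert CfsgLib.Chevalley.Data.F4.datum_eq CfsgLib.Chevalley.Data.F4.chkSmith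
    (by decide +kernel) ok_F4B4 ok_F4C3A1 cover hF ?_
  exact (pow_mul_ne Fintype.one_lt_card (by decide) _ (by decide))

end CfsgLib.Chevalley.OddInvolution.F4
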