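import Cfsg.Agent.Lib.Chevalley.OddInvolution.Centralizer
import Cfsg.Agent.Lib.Chevalley.OddInvolution.Check
import Cfsg.Agent.Lib.Chevalley.Poincare

/-!
Diagonal involutions as bit vectors on the fundamental roots, their orbits under the reflection group,
and the stabiliser of one of them as the reflection group of the subsystem with trivial value.
-/

set_option autoImplicit false

namespace CfsgLib.Chevalley.OddInvolution

open Tbl CoxeterTorus ToralCentralizer

/-- Whether the root `s` has value `-1` at the involution with bits `b`. -/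
def maskV (T : Tbl) (b s : ℕ) : Bool :=
  decide (((List.range T.rank).map fun j => bif b.testBit j then T.co s j else 0).sum % 2 = 1)

/-- Each listed vector is carried to an earlier one by the named fundamental reflection. -/
def chkChain (T : Tbl) : List ℕ → List (ℕ × ℕ) → Bool
  | _, [] => true
  | known, (y, i) :: l => Nat.blt i T.rank &&
      (known.any fun x => allLt (fun j => x.testBit j == maskV T y (T.refl i (T.simple j))) T.rank) &&
      chkChain T (y :: known) l

/-- A class of diagonal involutions with the root system of its centraliser. -/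
structure Sub where
  S : Tbl
  mask : ℕ
  iota : List ℕ
  words : List (List ℕ)
  D : ℤ
  span : List (List ℤ)
  chain : List (ℕ × ℕ)

namespace Sub

variable (T : Tbl) (c : Sub)

def ι (r : ℕ) : ℕ := c.iota.getD r 0

/-- The members of the orbit. -/
def orbit : List ℕ := c.mask :: c.chain.map Prod.fst

def chkRange : Bool :=
  allLt (fun r => Nat.blt (c.ι r) T.n && !maskV T c.mask (c.ι r) &&
    (Nat.ble c.S.half r == Nat.ble T.half (c.ι r)) &&
    allLt (fun r' => Nat.blt (c.ι r') (c.ι r)) r) c.S.n &&
  allLt (fun s => maskV T c.mask s || (List.range c.S.n).any fun r => Nat.beq (c.ι r) s) T.n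

def chkWord (i : ℕ) : Bool :=
  let l := c.words.getD i []
  l.all (fun g => Nat.blt g T.rank) &&
  allLt (fun r => Nat.beq (sgnW T l (c.ι r)).1 (c.ι (c.S.refl i r))) c.S.n &&
  allLt (fun j => maskV T c.mask (sgnW T l (T.simple j)).1 == c.mask.testBit j) T.rank

def chkSpan : Bool :=
  decide (c.D ≠ 0) &&
  allLt (fun j => allLt (fun m => decide (((List.range c.S.rank).map fun k =>
    (c.span.getD j []).getD k 0 * T.co (c.ι (c.S.simple k)) m).sum =
      bif Nat.beq j m then c.D else 0)) T.rank) T.rank

def chkOrbit : Bool :=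
  chkChain T [c.mask] c.chain && (c.orbit.all fun y => Nat.blt y (2 ^ T.rank)) && decide c.orbit.Nodup

/-- All the certificates of a class. -/
structure Ok : Prop where
  valid : c.S.Valid
  rank : c.S.rank = T.rank
  range : c.chkRange T = true
  words : allLt (c.chkWord T) c.S.rank = true
  span : c.chkSpan T = true
  orbit : c.chkOrbit T = true

end Sub

variable {T : Tbl} (hT : T.Valid) {F : Type*} [Field F]
include hT

/-- Equality of two values on the fundamental roots is equality everywhere. -/
theorem tCh_pull {f g : Fin T.rank → Fˣ} {w : Equiv.Perm (Fin T.n)} (hw : w ∈ T.WP hT)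
    (h : ∀ j : Fin T.rank, tCh T f (w (T.simpF hT j)).val = tCh T g (T.simple j.val)) (s : Fin T.n) :
    tCh T f (w s).val = tCh T g s.val := by
  rw [tCh_linear hT g s, tCh_linear hT f (w s),
    Finset.prod_congr rfl fun j _ => by rw [WP_linear hT hw s j.2, zpow_sum_eq],
    Finset.prod_comm]
  refine Finset.prod_congr rfl fun k _ => ?_
  rw [← h k, tCh_linear hT f (w (T.simpF hT k)), ← Finset.prod_zpow]
  exact Finset.prod_congr rfl fun j _ => by rw [← _root_.zpow_mul, mul_comm]

theorem exists_par [Fintype F] (hinj : Function.Injective (torusHom T F)) (b : ℕ) :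
    ∃ f : Fin T.rank → Fˣ, ∀ j : Fin T.rank,
      tCh T f (T.simple j.val) = bif b.testBit j.val then -1 else 1 :=
  powMat_surjective hT hinj _

theorem tCh_mask {f : Fin T.rank → Fˣ} {b : ℕ}
    (hf : ∀ j : Fin T.rank, tCh T f (T.simple j.val) = bif b.testBit j.val then -1 else 1)
    (s : Fin T.n) : tCh T f s.val = bif maskV T b s.val then -1 else 1 := by
  rw [tCh_linear hT f s, Finset.prod_congr rfl fun j _ => show
    tCh T f (T.simple j.val) ^ T.co s.val j.val =
      (-1) ^ (bif b.testBit j.val then T.co s.val j.val else 0) by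
      rw [hf j]; cases b.testBit j.val <;> simp]
  rw [← zpow_sum_eq, maskV, list_sum_range]
  set A := ∑ j : Fin T.rank, bif b.testBit j.val then T.co s.val j.val else 0
  rcases Int.emod_two_eq_zero_or_one A with h | h
  · rw [Even.neg_one_zpow (Int.even_iff.mpr h), decide_eq_false (by omega), cond_false]
  · rw [Odd.neg_one_zpow (Int.odd_iff.mpr h), decide_eq_true h, cond_true]

theorem ne_neg_one (h2 : (2 : F) ≠ 0) : (-1 : Fˣ) ≠ 1 := fun h => h2 (by
  have := congrArg Units.val h
  rw [Units.val_neg, Units.val_one] at this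
  linear_combination -this)

theorem sgnW_val : ∀ (l : List (Fin T.rank)) (s : Fin T.n),
    (sgnW T (l.map Fin.val) s.val).1 = (T.pw hT l s).val
  | [], s => rfl
  | i :: l, s => by
    simp only [List.map_cons, sgnW_cons, sgnW_val l s, pw_cons, Equiv.Perm.mul_apply, refP_apply]

variable [Fintype F] (hinj : Function.Injective (torusHom T F)) (h2 : (2 : F) ≠ 0)
include hinj h2

/-- The involution with given bits. -/
noncomputable def par (b : ℕ) : Fin T.rank → Fˣ := (exists_par hT hinj b).choose

omit h2 in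
theorem tCh_par (b : ℕ) (s : Fin T.n) :
    tCh T (par hT hinj b) s.val = bif maskV T b s.val then -1 else 1 :=
  tCh_mask hT (exists_par hT hinj b).choose_spec s

omit h2 in
theorem tCh_par_simple (b : ℕ) (j : Fin T.rank) :
    tCh T (par hT hinj b) (T.simple j.val) = bif b.testBit j.val then -1 else 1 :=
  (exists_par hT hinj b).choose_spec j

theorem tCh_par_eq_one (b : ℕ) (s : Fin T.n) :
    tCh T (par hT hinj b) s.val = 1 ↔ maskV T b s.val = false := by
  rw [tCh_par hT hinj b s]
  cases maskV T b s.val <;> simp [ne_neg_one hT h2]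

/-- The orbit certificate. -/
theorem chain_orbit (b : ℕ) : ∀ (l : List (ℕ × ℕ)) (known : List ℕ), chkChain T known l = true →
    (∀ x ∈ known, ∃ v ∈ T.WP hT, ∀ s : Fin T.n,
      tCh T (par hT hinj b) (v s).val = tCh T (par hT hinj x) s.val) →
    ∀ y ∈ l.map Prod.fst, ∃ v ∈ T.WP hT, ∀ s : Fin T.n,
      tCh T (par hT hinj b) (v s).val = tCh T (par hT hinj y) s.val
  | [], _, _, _, y, hy => absurd hy (by simp)
  | (y, i) :: l, known, h, hk, z, hz => by
    simp only [chkChain, Bool.and_eq_true, List.any_eq_true, allLt_iff, beq_iff_eq] at h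
    obtain ⟨⟨hi, x, hx, hxy⟩, hl⟩ := h
    obtain ⟨v, hv, hvs⟩ := hk x hx
    let i' : Fin T.rank := ⟨i, Nat.le_of_ble_eq_true hi⟩
    have hiP : T.refP hT i' ∈ T.WP hT := Subgroup.subset_closure ⟨_, rfl⟩
    have hy : ∃ v ∈ T.WP hT, ∀ s : Fin T.n,
        tCh T (par hT hinj b) (v s).val = tCh T (par hT hinj y) s.val := by
      refine ⟨v * T.refP hT i', mul_mem hv hiP, fun s => ?_⟩
      rw [Equiv.Perm.mul_apply, hvs]
      have h1 : ∀ t : Fin T.n,
          tCh T (par hT hinj y) (T.refP hT i' t).val = tCh T (par hT hinj x) t.val :=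
        tCh_pull hT hiP fun j => by
          rw [tCh_par hT hinj y, tCh_par_simple hT hinj x, hxy j.val j.2]
          rfl
      rw [← h1 (T.refP hT i' s), ← Equiv.Perm.mul_apply, refP_mul_self, Equiv.Perm.one_apply]
    simp only [List.map_cons, List.mem_cons] at hz
    rcases hz with rfl | hz
    · exact hy
    · refine chain_orbit b l (y :: known) hl (fun a ha => ?_) z hz
      rcases List.mem_cons.mp ha with rfl | ha
      · exact hy
      · exact hk a ha

variable {c : Sub}

theorem orbit_mem (hc : c.Ok T) {y : ℕ} (hy : y ∈ c.orbit) :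
    ∃ v ∈ T.WP hT, ∀ s : Fin T.n,
      tCh T (par hT hinj c.mask) (v s).val = tCh T (par hT hinj y) s.val := by
  have h := hc.orbit
  simp only [Sub.chkOrbit, Bool.and_eq_true] at h
  rcases List.mem_cons.mp hy with rfl | hy
  · exact ⟨1, one_mem _, fun s => rfl⟩
  · exact chain_orbit hT hinj h2 c.mask c.chain [c.mask] h.1.1
      (fun x hx => by rw [List.mem_singleton] at hx; subst hx; exact ⟨1, one_mem _, fun s => rfl⟩) y hy

/-- The members of an orbit give conjugate involutions. -/
theorem orbit_conj (hc : c.Ok T) {y : ℕ} (hy : y ∈ c.orbit) :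
    ∃ m ∈ T.datum.group F, m * torusHom T F (par hT hinj y) * m⁻¹ =
      torusHom T F (par hT hinj c.mask) := by
  obtain ⟨v, hv, hvs⟩ := orbit_mem hT hinj h2 hc hy
  obtain ⟨m, hm⟩ := wHom_surjective (F := F) hT ⟨v, hv⟩
  have hmm : T.Mono (m : GL T.I F) v := by
    have := mono_wHom hT m
    rwa [hm] at this
  refine ⟨m, monomial_le_group hT m.2, ?_⟩
  rw [(mono_rel hT m.2 hmm _ _).2 hvs, mul_inv_cancel_right]

theorem card_fixW_le (hc : c.Ok T) :
    c.orbit.length * Nat.card ↥(fixW (K := F) hT (par hT hinj c.mask)) ≤ Nat.card ↥(T.WP hT) := by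
  classical
  have hmem : ∀ k : Fin c.orbit.length, ∃ v ∈ T.WP hT, ∀ s : Fin T.n,
      tCh T (par hT hinj c.mask) (v s).val = tCh T (par hT hinj c.orbit[k.val]) s.val :=
    fun k => orbit_mem hT hinj h2 hc (List.getElem_mem _)
  choose v hv hvs using hmem
  let φ : Fin c.orbit.length × ↥(fixW (K := F) hT (par hT hinj c.mask)) → ↥(T.WP hT) := fun p =>
    ⟨(p.2 : Equiv.Perm (Fin T.n)) * v p.1, mul_mem p.2.2.1 (hv p.1)⟩
  have hφ : Function.Injective φ := by
    rintro ⟨k, h⟩ ⟨k', h'⟩ e
    have e' : (h : Equiv.Perm (Fin T.n)) * v k = h' * v k' := congrArg Subtype.val e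
    have ho := hc.orbit
    simp only [Sub.chkOrbit, Bool.and_eq_true, List.all_eq_true, decide_eq_true_eq] at ho
    have hkk : k = k' := by
      refine Fin.ext ((ho.2.getElem_inj_iff (hi := k.2) (hj := k'.2)).1 (Nat.eq_of_testBit_eq fun j => ?_))
      by_cases hj : j < T.rank
      · have h1 : tCh T (par hT hinj c.orbit[k.val]) (T.simple j) =
            tCh T (par hT hinj c.orbit[k'.val]) (T.simple j) := by
          have a1 := hvs k (T.simpF hT ⟨j, hj⟩)
          have a2 := hvs k' (T.simpF hT ⟨j, hj⟩)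
          rw [← h.2.2, ← Equiv.Perm.mul_apply, e', Equiv.Perm.mul_apply, h'.2.2, a2] at a1
          exact a1.symm
        rw [tCh_par_simple hT hinj _ ⟨j, hj⟩, tCh_par_simple hT hinj _ ⟨j, hj⟩] at h1
        cases hb : c.orbit[k.val].testBit j <;> cases hb' : c.orbit[k'.val].testBit j <;>
          simp_all [ne_neg_one hT h2, (ne_neg_one hT h2).symm]
      · have b1 := Nat.le_of_ble_eq_true (ho.1.2 _ (List.getElem_mem k.2))
        have b2 := Nat.le_of_ble_eq_true (ho.1.2 _ (List.getElem_mem k'.2))
        have h2j : 2 ^ T.rank ≤ 2 ^ j := Nat.pow_le_pow_right (by norm_num) (by omega)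
        rw [Nat.testBit_lt_two_pow (by omega), Nat.testBit_lt_two_pow (by omega)]
    subst hkk
    exact Prod.ext rfl (Subtype.ext (mul_right_cancel e'))
  have := Nat.card_le_card_of_injective φ hφ
  rwa [Nat.card_prod, Nat.card_fin] at this

/-- The order of the centraliser of the involution of a class. -/
theorem card_cent_sub (hC : T.chkComm = true) (hc : c.Ok T)
    (hW : Nat.card ↥(T.WP hT) = c.orbit.length * Nat.card ↥(c.S.WP hc.valid))
    {steps : List (List Rep)} {degs : List ℕ} (hl : steps.length = c.S.rank)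
    (hs : ∀ j < c.S.rank, c.S.chkStep j (steps.getD j []) = true)
    (hp : chkPoly steps degs = true)
    (hH : Nat.card (T.datum.diagonalSubgroup F) = (Fintype.card F - 1) ^ T.rank) :
    Nat.card ↥(T.datum.group F ⊓ Subgroup.centralizer {torusHom T F (par hT hinj c.mask)}) =
      Fintype.card F ^ c.S.half * (degs.map fun d => Fintype.card F ^ d - 1).prod := by
  classical
  set f := par hT hinj c.mask with hf
  have hS := hc.valid
  obtain ⟨hr1, hr2⟩ : (∀ r < c.S.n, (((c.ι r < T.n ∧ maskV T c.mask (c.ι r) = false) ∧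
      Nat.ble c.S.half r = Nat.ble T.half (c.ι r)) ∧ ∀ r' < r, c.ι r' < c.ι r)) ∧
      ∀ s < T.n, maskV T c.mask s = false → ∃ r < c.S.n, c.ι r = s := by
    have h := hc.range
    simp only [Sub.chkRange, Bool.and_eq_true, allLt_iff, Bool.not_eq_true', beq_iff_eq,
      Bool.or_eq_true, List.any_eq_true, List.mem_range] at h
    refine ⟨fun r hr => ?_, fun s hs h0 => ?_⟩
    · obtain ⟨⟨⟨a, b⟩, d⟩, e⟩ := h.1 r hr
      exact ⟨⟨⟨Nat.le_of_ble_eq_true a, b⟩, d⟩, fun r' hr' => Nat.le_of_ble_eq_true (e r' hr')⟩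
    · rcases h.2 s hs with a | ⟨r, hr, a⟩
      · simp [h0] at a
      · exact ⟨r, hr, Nat.eq_of_beq_eq_true a⟩
  let e0 : Fin c.S.n → {s : Fin T.n // tCh T f s.val = 1} := fun r =>
    ⟨⟨c.ι r, (hr1 r r.2).1.1.1⟩, (tCh_par_eq_one hT hinj h2 _ _).2 (hr1 r r.2).1.1.2⟩
  have he0 : Function.Bijective e0 := by
    refine ⟨fun a b h => ?_, fun s => ?_⟩
    · have h' : c.ι a = c.ι b := congrArg (fun x : {s : Fin T.n // tCh T f s.val = 1} => x.1.val) h
      rcases lt_trichotomy a.val b.val with h1 | h1 | h1
      · exact absurd h' ((hr1 b b.2).2 a h1).ne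
      · exact Fin.ext h1
      · exact absurd h' ((hr1 a a.2).2 b h1).ne'
    · obtain ⟨r, hr, e⟩ := hr2 _ s.1.2 ((tCh_par_eq_one hT hinj h2 _ _).1 s.2)
      exact ⟨⟨r, hr⟩, Subtype.ext (Fin.ext e)⟩
  let e := Equiv.ofBijective e0 he0
  have he : ∀ r, ((e r).1).val = c.ι r.val := fun r => rfl
  have hpos : ∀ r : Fin c.S.n, T.half ≤ (e r).1.val ↔ c.S.half ≤ r.val := fun r => by
    rw [he]
    exact ⟨fun h => Nat.le_of_ble_eq_true ((hr1 r r.2).1.2.trans (Nat.ble_eq_true_of_le h)),
      fun h => Nat.le_of_ble_eq_true ((hr1 r r.2).1.2.symm.trans (Nat.ble_eq_true_of_le h))⟩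
  -- restriction to the subsystem
  let res : ↥(fixW (K := F) hT f) →* Equiv.Perm (Fin c.S.n) :=
    MonoidHom.mk' (fun w => e.symm.permCongr ((w : Equiv.Perm (Fin T.n)).subtypePerm fun s => by
      rw [w.2.2 s])) fun a b => by ext r; simp [Equiv.permCongr_apply]
  have hres : ∀ (w : ↥(fixW (K := F) hT f)) r, (e (res w r)).1 = (w : Equiv.Perm (Fin T.n)) (e r).1 :=
    fun w r => by simp [res, Equiv.permCongr_apply]
  have hinjres : Function.Injective res := by
    rw [injective_iff_map_eq_one]
    intro w hw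
    have hfix : ∀ r : Fin c.S.n, (w : Equiv.Perm (Fin T.n)) (e r).1 = (e r).1 := fun r => by
      rw [← hres, hw, Equiv.Perm.one_apply]
    have h := hc.span
    simp only [Sub.chkSpan, Bool.and_eq_true, allLt_iff, decide_eq_true_eq, list_sum_range] at h
    obtain ⟨hD, hspan⟩ := h
    have hco : ∀ (j : Fin T.rank) {m : ℕ}, m < T.rank →
        T.co ((w : Equiv.Perm (Fin T.n)) (T.simpF hT j)).val m = T.co (T.simpF hT j).val m := by
      intro j m hm
      set x : Fin T.rank → ℤ := fun k => T.co ((w : Equiv.Perm (Fin T.n)) (T.simpF hT k)).val m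
      have hx : ∀ k : Fin c.S.rank,
          ∑ l : Fin T.rank, T.co (c.ι (c.S.simple k.val)) l.val * x l = T.co (c.ι (c.S.simple k.val)) m := by
        intro k
        have h1 := WP_linear hT w.2.1 (e (c.S.simpF hS k)).1 hm
        rw [hfix] at h1
        exact h1.symm
      have h1 : c.D * x j = ∑ k : Fin c.S.rank, (c.span.getD j.val []).getD k.val 0 *
          T.co (c.ι (c.S.simple k.val)) m := by
        rw [Finset.sum_congr rfl fun (k : Fin c.S.rank) _ => by rw [← hx k]]
        simp only [Finset.mul_sum, ← mul_assoc]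
        rw [Finset.sum_comm]
        simp only [← Finset.sum_mul]
        rw [Finset.sum_congr rfl fun (l : Fin T.rank) _ => by rw [hspan j j.2 l l.2],
          Finset.sum_eq_single j]
        · simp
        · intro l _ hl
          rw [show Nat.beq j.val l.val = false from Bool.eq_false_iff.mpr fun e =>
            hl (Fin.ext (Nat.eq_of_beq_eq_true e).symm), cond_false, zero_mul]
        · simp
      rw [hspan j j.2 m hm] at h1
      rw [co_simpF hT j hm]
      refine mul_left_cancel₀ hD (h1.trans ?_)
      cases hb : Nat.beq j.val m with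
      | true => rw [if_pos (Nat.eq_of_beq_eq_true hb).symm]; simp
      | false => rw [if_neg fun e => by rw [e, Nat.beq_refl] at hb; exact Bool.noConfusion hb]; simp
    refine Subtype.ext (eq_one_of_pos hT w.2.1 fun j => ?_)
    refine half_le_of_co_nonneg hT (Fin.isLt _) fun m hm => ?_
    rw [hco j hm]
    exact co_nonneg' hT (half_le_simpF hT j) hm
  have hgen : c.S.WP hS ≤ res.range := by
    refine (Subgroup.closure_le _).2 ?_
    rintro _ ⟨i, rfl⟩
    have h := allLt_iff.mp hc.words i i.2
    simp only [Sub.chkWord, Bool.and_eq_true, List.all_eq_true, allLt_iff, beq_iff_eq] at h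
    obtain ⟨⟨hlet, hperm⟩, hstab⟩ := h
    set L := c.words.getD i.val []
    set l : List (Fin T.rank) := L.pmap Fin.mk fun a ha => Nat.le_of_ble_eq_true (hlet a ha)
    have hmap : l.map Fin.val = L := by simp [l, List.map_pmap]
    have himg : ∀ s : Fin T.n, (T.pw hT l s).val = (sgnW T L s.val).1 := fun s => by
      rw [← hmap, (sgnW_val hT l s)]
    have hwS : T.pw hT l ∈ fixW (K := F) hT f := by
      refine ⟨pw_mem hT l, tCh_pull hT (pw_mem hT l) fun j => ?_⟩
      rw [tCh_par hT hinj, tCh_par_simple hT hinj, himg, show (T.simpF hT j).val = T.simple j.val from rfl,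
        hstab j j.2]
    refine ⟨⟨_, hwS⟩, Equiv.ext fun r => e.injective (Subtype.ext (Fin.ext ?_))⟩
    rw [hres, himg, he, he, Nat.eq_of_beq_eq_true (hperm r r.2)]
    rfl
  have hcardS : Nat.card ↥(fixW (K := F) hT f) ≤ Nat.card ↥(c.S.WP hS) := by
    have h1 := card_fixW_le hT hinj h2 hc
    rw [hW] at h1
    exact Nat.le_of_mul_le_mul_left h1 (by simp [Sub.orbit])
  have hrange : res.range = c.S.WP hS := (Subgroup.eq_of_le_of_card_ge hgen (by
    rw [← Nat.card_congr (MonoidHom.ofInjective hinjres).toEquiv]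
    exact hcardS)).symm
  let E : ↥(fixW (K := F) hT f) ≃ ↥(c.S.WP hS) :=
    ((MonoidHom.ofInjective hinjres).trans (MulEquiv.subgroupCongr hrange)).toEquiv
  have hinv : ∀ w : ↥(fixW (K := F) hT f), fixInv f (w : Equiv.Perm (Fin T.n)) = c.S.invN (E w : Equiv.Perm (Fin c.S.n)) := by
    intro w
    refine (Finset.card_bij (fun r _ => (e r).1) (fun r hr => ?_)
      (fun a _ b _ h => e.injective (Subtype.ext h)) fun s hs => ?_).symm
    · simp only [Finset.mem_filter, Finset.mem_univ, true_and] at hr ⊢
      refine ⟨(hpos r).2 hr.1, (e r).2, ?_⟩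
      rw [← hres]
      exact not_le.1 fun h => absurd ((hpos _).1 h) (not_le.2 hr.2)
    · simp only [Finset.mem_filter, Finset.mem_univ, true_and] at hs
      refine ⟨e.symm ⟨s, hs.2.1⟩, ?_, by simp⟩
      simp only [Finset.mem_filter, Finset.mem_univ, true_and]
      refine ⟨(hpos _).1 (by simpa using hs.1), not_le.1 fun h => ?_⟩
      have h3 := (hpos (res w (e.symm ⟨s, hs.2.1⟩))).2 h
      rw [hres] at h3
      simp only [Equiv.apply_symm_apply] at h3
      omega
  have hfp : fixPos f = c.S.half := by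
    rw [fixPos]
    have h1 : (Finset.univ.filter fun r : Fin c.S.n => c.S.half ≤ r.val).card = c.S.half := by
      rw [← card_filter_fin (T := c.S) (fun _ => True) _ fun s => (and_iff_left trivial).symm]
      simp [Tbl.n]; omega
    refine Eq.trans ?_ h1
    refine (Finset.card_bij (fun r _ => (e r).1) (fun r hr => ?_)
      (fun a _ b _ h => e.injective (Subtype.ext h)) fun s hs => ?_).symm
    · simp only [Finset.mem_filter, Finset.mem_univ, true_and] at hr ⊢
      exact ⟨(hpos r).2 hr, (e r).2⟩
    · simp only [Finset.mem_filter, Finset.mem_univ, true_and] at hs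
      refine ⟨e.symm ⟨s, hs.2⟩, ?_, by simp⟩
      simp only [Finset.mem_filter, Finset.mem_univ, true_and]
      exact (hpos _).1 (by simpa using hs.1)
  have : Fintype ↥(fixW (K := F) hT f) := Fintype.ofFinite _
  rw [card_cent hT hC f, hH, hfp, mul_assoc,
    Fintype.sum_equiv E (fun w => Fintype.card F ^ fixInv f (w : Equiv.Perm (Fin T.n)))
      (fun v => Fintype.card F ^ c.S.invN (v : Equiv.Perm (Fin c.S.n))) fun w => by rw [hinv]]
  congr 1
  have hq1 : 1 ≤ Fintype.card F := Fintype.card_pos
  apply Int.natCast_inj.mp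
  rw [Nat.cast_mul, Nat.cast_pow, Nat.cast_sub hq1, Nat.cast_sum, Nat.cast_one, ← hc.rank]
  simp only [Nat.cast_pow]
  rw [poincare hS hl hs hp (Fintype.card F : ℤ)]
  clear hp
  induction degs with
  | nil => simp
  | cons d l ih =>
    simp only [List.map_cons, List.prod_cons, Nat.cast_mul, ih, Nat.cast_sub (Nat.one_le_pow d _ hq1),
      Nat.cast_pow, Nat.cast_one]

end CfsgLib.Chevalley.OddInvolution
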