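import Cfsg.Agent.Lib.Chevalley.OddInvolution.Reduce
import Cfsg.Agent.Lib.Chevalley.OddInvolution.Toral
import Cfsg.Agent.Lib.Chevalley.SteinbergTorus
import Cfsg.Agent.Lib.Chevalley.Orders

/-!
Two classes of involutions, from the certificates of a table and of two classes of diagonal involutions.
-/

set_option autoImplicit false

namespace CfsgLib.Chevalley.OddInvolution

open Tbl CoxeterTorus

variable {T : Tbl}

/-- Every nonzero bit vector lies in one of the two orbits. -/
def chkCover (T : Tbl) (cA cB : Sub) : Bool :=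
  !Nat.beq cA.mask 0 && !Nat.beq cB.mask 0 &&
  allLt (fun y => Nat.beq y 0 || cA.orbit.any (Nat.beq y) || cB.orbit.any (Nat.beq y)) (2 ^ T.rank)

/-- A class with its length polynomial. -/
structure Ok' (T : Tbl) (hT : T.Valid) (c : Sub) (steps : List (List Rep)) (degs : List ℕ) : Prop where
  ok : c.Ok T
  index : Nat.card ↥(T.WP hT) = c.orbit.length * Nat.card ↥(c.S.WP ok.valid)
  len : steps.length = c.S.rank
  step : ∀ j < c.S.rank, c.S.chkStep j (steps.getD j []) = true
  poly : chkPoly steps degs = true

theorem centralizer_card {G : Type*} [Group G] (H : Subgroup G) (x : ↥H) :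
    Nat.card (Subgroup.centralizer ({x} : Set ↥H)) =
      Nat.card ↥(H ⊓ Subgroup.centralizer {(x : G)}) := by
  refine Nat.card_congr ⟨fun u => ⟨u.1.1, u.1.2, ?_⟩, fun u => ⟨⟨u.1, u.2.1⟩, ?_⟩, fun u => rfl, fun u => rfl⟩
  · exact Subgroup.mem_centralizer_singleton_iff.2
      (congrArg Subtype.val (Subgroup.mem_centralizer_singleton_iff.1 u.2))
  · exact Subgroup.mem_centralizer_singleton_iff.2
      (Subtype.ext (Subgroup.mem_centralizer_singleton_iff.1 u.2.2))

/-- The involutions form two classes with the given centraliser orders. -/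
theorem two_classes {special : List (ℕ × List ℕ)} (hc : Cert T special) {D : Cfsg.Lie.ChevalleyDatum}
    (hD : T.datum = D) {U U' V V' : List (List ℤ)} {d : List ℕ}
    (hsm : T.chkSmith U U' V V' d = true) (hd : allLt (fun i => Nat.beq (d.getD i 0) 1) T.rank = true)
    {cA cB : Sub} {sA sB : List (List Rep)} {dA dB : List ℕ} (hA : Ok' T hc.valid cA sA dA)
    (hB : Ok' T hc.valid cB sB dB) (hcov : chkCover T cA cB = true)
    {F : Type*} [Field F] [Fintype F] (hF : Odd (Fintype.card F))
    (hne : Fintype.card F ^ cA.S.half * (dA.map fun e => Fintype.card F ^ e - 1).prod ≠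
      Fintype.card F ^ cB.S.half * (dB.map fun e => Fintype.card F ^ e - 1).prod) :
    ∃ s t : ↥(D.group F), orderOf s = 2 ∧ orderOf t = 2 ∧ ¬ IsConj s t ∧
      (∀ u : ↥(D.group F), orderOf u = 2 → IsConj u s ∨ IsConj u t) ∧
      Nat.card (Subgroup.centralizer ({s} : Set ↥(D.group F))) =
        Fintype.card F ^ cA.S.half * (dA.map fun e => Fintype.card F ^ e - 1).prod ∧
      Nat.card (Subgroup.centralizer ({t} : Set ↥(D.group F))) =
        Fintype.card F ^ cB.S.half * (dB.map fun e => Fintype.card F ^ e - 1).prod := by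
  subst hD
  classical
  have hT := hc.valid
  have hd' : ∀ i < T.rank, d.getD i 0 = 1 := fun i hi => Nat.eq_of_beq_eq_true (allLt_iff.mp hd i hi)
  have hinj : Function.Injective (torusHom T F) := torusHom_injective_of_smith hT hsm hd'
  have hH : Nat.card (T.datum.diagonalSubgroup F) = (Fintype.card F - 1) ^ T.rank := by
    rw [← diag_order hT rfl hsm, Finset.prod_eq_one fun i _ => by rw [hd' i i.2, Nat.gcd_one_right],
      one_mul]
  have h2 : (2 : F) ≠ 0 := by
    intro h
    have hch : ringChar F ∣ 2 := (ringChar.spec F 2).1 h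
    rcases (Nat.dvd_prime Nat.prime_two).1 hch with h1 | h1
    · exact CharP.ringChar_ne_one h1
    · have := FiniteField.even_card_of_char_two h1
      obtain ⟨k, hk⟩ := hF; omega
  simp only [chkCover, Bool.and_eq_true, allLt_iff, Bool.or_eq_true, Bool.not_eq_true',
    List.any_eq_true] at hcov
  obtain ⟨⟨hnA, hnB⟩, hall⟩ := hcov
  have hmem : ∀ {c : Sub}, c.Ok T → torusHom T F (par hT hinj c.mask) ∈ T.datum.group F := fun _ =>
    diag_le_group hT (by rw [← torusHom_range hT]; exact ⟨_, rfl⟩)
  let el : ∀ {c : Sub}, c.Ok T → ↥(T.datum.group F) := fun {c} h =>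
    ⟨torusHom T F (par hT hinj c.mask), hmem h⟩
  have hord : ∀ {c : Sub} (h : c.Ok T), Nat.beq c.mask 0 = false → orderOf (el h) = 2 := by
    intro c h h0
    have : Fact (Nat.Prime 2) := ⟨Nat.prime_two⟩
    refine orderOf_eq_prime (Subtype.ext ?_) fun he => ?_
    · show torusHom T F (par hT hinj c.mask) ^ 2 = 1
      rw [← map_pow, ← map_one (torusHom T F)]
      refine torus_congr hT fun s => ?_
      rw [tCh_pow, tCh_par hT hinj]
      cases maskV T c.mask s.val <;> simp [tCh]
    · have h1 : par hT hinj c.mask = 1 := hinj ((congrArg Subtype.val he).trans (map_one _).symm)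
      have hlt := h.orbit
      simp only [Sub.chkOrbit, Bool.and_eq_true, List.all_eq_true] at hlt
      have hlt' : c.mask < 2 ^ T.rank := Nat.le_of_ble_eq_true (hlt.1.2 _ List.mem_cons_self)
      obtain ⟨j, hj⟩ := Nat.exists_testBit_of_ne_zero (x := c.mask)
        (fun e => by rw [e] at h0; simp at h0)
      have hjr : j < T.rank := by
        by_contra hge
        have := Nat.pow_le_pow_right (show 2 ≥ 1 by norm_num) (not_lt.1 hge)
        rw [Nat.testBit_lt_two_pow (by omega)] at hj
        exact Bool.noConfusion hj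
      have h3 := tCh_par_simple hT hinj c.mask ⟨j, hjr⟩
      rw [h1, hj] at h3
      simp [tCh] at h3
      exact ne_neg_one hT h2 h3.symm
  have hcard : ∀ {c : Sub} {st : List (List Rep)} {dg : List ℕ} (h : Ok' T hT c st dg),
      Nat.card (Subgroup.centralizer ({el h.ok} : Set ↥(T.datum.group F))) =
        Fintype.card F ^ c.S.half * (dg.map fun e => Fintype.card F ^ e - 1).prod := fun {c st dg} h => by
    rw [centralizer_card]
    exact card_cent_sub hT hinj h2 hc.comm h.ok h.index h.len h.step h.poly hH
  refine ⟨el hA.ok, el hB.ok, hord hA.ok hnA, hord hB.ok hnB, fun hconj => hne ?_, fun u hu => ?_,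
    hcard hA, hcard hB⟩
  · obtain ⟨g, hg⟩ := isConj_iff.1 hconj
    rw [← hcard hA, ← hcard hB, ← hg]
    refine Nat.card_congr (((Subgroup.centralizer ({el hA.ok} : Set ↥(T.datum.group F))).equivMapOfInjective
      (MulAut.conj g).toMonoidHom (MulAut.conj g).injective).toEquiv.trans
      (Equiv.subtypeEquivRight fun y => ?_))
    simp only [Subgroup.mem_map, Subgroup.mem_centralizer_singleton_iff, MulEquiv.coe_toMonoidHom,
      MulAut.conj_apply]
    constructor
    · rintro ⟨x, hx, rfl⟩
      calc g * x * g⁻¹ * (g * el hA.ok * g⁻¹) = g * (x * el hA.ok) * g⁻¹ := by group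
        _ = g * (el hA.ok * x) * g⁻¹ := by rw [hx]
        _ = _ := by group
    · intro hy
      refine ⟨g⁻¹ * y * g, ?_, by group⟩
      calc g⁻¹ * y * g * el hA.ok = g⁻¹ * (y * (g * el hA.ok * g⁻¹)) * g := by group
        _ = g⁻¹ * (g * el hA.ok * g⁻¹ * y) * g := by rw [hy]
        _ = _ := by group
  · have hu2 : (u : GL T.I F) * (u : GL T.I F) = 1 := by
      have h1 := pow_orderOf_eq_one u
      rw [hu, pow_two] at h1
      exact congrArg Subtype.val h1
    obtain ⟨x, hx, hd0⟩ := exists_diag hc hF u.2 hu2
    rw [← torusHom_range hT] at hd0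
    obtain ⟨f, hf⟩ := hd0
    have hff : ∀ s : Fin T.n, tCh T f s.val = 1 ∨ tCh T f s.val = -1 := by
      intro s
      have h1 : f ^ 2 = 1 := hinj (by
        rw [map_pow, map_one, hf, pow_two]
        calc x * u * x⁻¹ * (x * u * x⁻¹) = x * ((u : GL T.I F) * u) * x⁻¹ := by group
          _ = 1 := by rw [hu2]; group)
      have h3 : tCh T f s.val ^ 2 = 1 := by
        rw [← tCh_pow f 2 s.val, h1]; simp [tCh]
      rcases sq_eq_one_iff.1 (show ((tCh T f s.val : F)) ^ 2 = 1 by
        rw [← Units.val_pow_eq_pow_val, h3, Units.val_one]) with h | h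
      · exact Or.inl (Units.ext h)
      · exact Or.inr (Units.ext (by rw [h, Units.val_neg, Units.val_one]))
    set y := Nat.ofBits fun j : Fin T.rank => decide (tCh T f (T.simple j.val) = -1) with hy
    have hfy : torusHom T F f = torusHom T F (par hT hinj y) := by
      refine torus_congr hT fun s => ?_
      rw [tCh_linear hT f s, tCh_linear hT (par hT hinj y) s]
      refine Finset.prod_congr rfl fun j _ => ?_
      congr 1
      rw [tCh_par_simple hT hinj, hy, Nat.testBit_ofBits_lt _ _ j.2]
      rcases hff (T.simpF hT j) with h | h <;>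
        rw [show (T.simpF hT j).val = T.simple j.val from rfl] at h <;>
        simp [h, (ne_neg_one hT h2).symm]
    have hgoal : ∀ {c : Sub} (h : c.Ok T), y ∈ c.orbit → IsConj u (el h) := by
      intro c h hmem'
      obtain ⟨m, hm, hme⟩ := orbit_conj hT hinj h2 h hmem'
      refine isConj_iff.2 ⟨⟨m * x, mul_mem hm hx⟩, Subtype.ext ?_⟩
      show m * x * (u : GL T.I F) * (m * x)⁻¹ = torusHom T F (par hT hinj c.mask)
      rw [← hme, ← hfy, hf]
      group
    rcases hall y (Nat.ofBits_lt_two_pow _) with (h0 | ⟨a, ha, hya⟩) | ⟨a, ha, hya⟩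
    · exfalso
      have h1 : torusHom T F f = 1 := by
        rw [← map_one (torusHom T F)]
        refine torus_congr hT fun s => ?_
        rw [tCh_linear hT f s, Finset.prod_eq_one fun j _ => ?_]
        · simp [tCh]
        · have hb : y.testBit j.val = false := by rw [Nat.eq_of_beq_eq_true h0, Nat.zero_testBit]
          rw [hy, Nat.testBit_ofBits_lt _ _ j.2] at hb
          rcases hff (T.simpF hT j) with h | h
          · rw [show (T.simpF hT j).val = T.simple j.val from rfl] at h
            rw [h, _root_.one_zpow]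
          · simp [show tCh T f (T.simple j.val) = -1 from h] at hb
      have h3 : u = 1 := Subtype.ext (conj_eq_one_iff.1 (hf ▸ h1))
      rw [h3, orderOf_one] at hu
      omega
    · exact Or.inl (hgoal hA.ok (Nat.eq_of_beq_eq_true hya ▸ ha))
    · exact Or.inr (hgoal hB.ok (Nat.eq_of_beq_eq_true hya ▸ ha))

end CfsgLib.Chevalley.OddInvolution
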