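import Cfsg.Agent.Lib.Chevalley.Bruhat
import Cfsg.Agent.Lib.Chevalley.Length

/-!
In odd characteristic an involution is conjugate to a monomial involution from its Bruhat cell.
-/

set_option autoImplicit false

namespace CfsgLib.Chevalley.OddInvolution

open Tbl

variable {T : Tbl} (hT : T.Valid) (hC : T.chkComm = true) {F : Type*} [Field F]
include hT

/-- `g` is conjugate to a monomial involution inducing `w`. -/
def ToMono (T : Tbl) {F : Type*} [Field F] (g : GL T.I F) (w : Equiv.Perm (Fin T.n)) : Prop :=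
  ∃ x ∈ T.datum.group F, ∃ m ∈ T.datum.monomialSubgroup F,
    m * m = 1 ∧ T.Mono m w ∧ x * g * x⁻¹ = m

theorem posU_le_borel {P : ℕ → Prop} (hP : ∀ r, P r → T.half ≤ r) :
    T.rootGen F P ≤ T.datum.borelSubgroup F :=
  rootGen_le fun r hr h t => pos_le_borel hT hr (hP r h) t

theorem mono_mem_WP {n : GL T.I F} {w : Equiv.Perm (Fin T.n)}
    (hn : n ∈ T.datum.monomialSubgroup F) (hm : T.Mono n w) : w ∈ T.WP hT := by
  obtain ⟨w', hw', hm'⟩ := exists_mono hT hn
  rwa [hm.unique hm']

include hC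

/-- An element of a cell in canonical form. -/
theorem cell_canonical {g b n b' : GL T.I F} {w : Equiv.Perm (Fin T.n)}
    (hb : b ∈ T.datum.borelSubgroup F) (hb' : b' ∈ T.datum.borelSubgroup F)
    (hn : n ∈ T.datum.monomialSubgroup F) (hm : T.Mono n w) (e : g = b * n * b') :
    ∃ c ∈ T.datum.borelSubgroup F, ∃ u ∈ T.rootGen F (T.negSet w), g = c * n * u := by
  obtain ⟨u, hu, h, hh, rfl⟩ := (mem_borel_iff hT).mp hb'
  have hu2 : h⁻¹ * u * h ∈ T.rootGen F (fun r => T.half ≤ r) := by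
    rw [← posUnipotent_rootGen hT]
    have hN : T.datum.diagonalSubgroup F ≤
        Subgroup.normalizer (T.datum.posUnipotent F : Set (GL T.I F)) := by
      rw [posUnipotent_rootGen hT]; exact diag_le_normalizer hT _
    have := (Subgroup.mem_normalizer_iff.mp (hN (inv_mem hh)) u).mp hu
    rwa [inv_inv] at this
  obtain ⟨p, hp, q, hq, hpq⟩ := exists_factor hT hC (T.posSet w) (T.negSet w) (fun r hr hrp => by
    rcases Nat.lt_or_ge (w ⟨r, hr⟩).val T.half with h | h
    · exact Or.inr ⟨hr, hrp, h⟩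
    · exact Or.inl ⟨hr, hrp, h⟩) T.half T.half (Nat.two_mul _).symm le_rfl _ hu2
  refine ⟨b * (n * h * n⁻¹) * (n * p * n⁻¹),
    mul_mem (mul_mem hb (Subgroup.mem_sup_right (conj_diag hT hn hh))) ?_, q, hq, ?_⟩
  · refine Subgroup.mem_sup_left ?_
    rw [posUnipotent_rootGen hT]
    exact conj_mem_rootGen hT hm (fun s ⟨_, _, h⟩ => h) hp
  · calc g = b * n * (h * (h⁻¹ * u * h)) := by rw [e]; group
      _ = _ := by rw [hpq]; group

theorem cell_unique {g b n b' c n' c' : GL T.I F} {w w' : Equiv.Perm (Fin T.n)}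
    (hb : b ∈ T.datum.borelSubgroup F) (hb' : b' ∈ T.datum.borelSubgroup F)
    (hn : n ∈ T.datum.monomialSubgroup F) (hm : T.Mono n w) (e : g = b * n * b')
    (hc : c ∈ T.datum.borelSubgroup F) (hc' : c' ∈ T.datum.borelSubgroup F)
    (hn' : n' ∈ T.datum.monomialSubgroup F) (hm' : T.Mono n' w') (e' : g = c * n' * c') : w = w' := by
  obtain ⟨b1, hb1, u, hu, e1⟩ := cell_canonical hT hC hb hb' hn hm e
  obtain ⟨c1, hc1, v, hv, e2⟩ := cell_canonical hT hC hc hc' hn' hm' e'
  have h1 := (canonical_unique hT hC hb1 hc1 hn hn' hm hu hv (e1.symm.trans e2)).1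
  have h3 := (hm.inv.mul hm').unique (mono_diag hT h1)
  exact inv_mul_eq_one.mp h3

/-- The Weyl element of the cell of an involution is an involution. -/
theorem cell_involution {g b n b' : GL T.I F} {w : Equiv.Perm (Fin T.n)} (hg : g * g = 1)
    (hb : b ∈ T.datum.borelSubgroup F) (hb' : b' ∈ T.datum.borelSubgroup F)
    (hn : n ∈ T.datum.monomialSubgroup F) (hm : T.Mono n w) (e : g = b * n * b') : w * w = 1 := by
  have e' : g = b'⁻¹ * n⁻¹ * b⁻¹ := by
    conv_lhs => rw [← inv_eq_of_mul_eq_one_right hg, e]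
    group
  have h := cell_unique hT hC hb hb' hn hm e (inv_mem hb') (inv_mem hb) (inv_mem hn) hm.inv e'
  exact mul_eq_one_iff_eq_inv.mpr h

variable [Fintype F]

/-- An involution is conjugate to a monomial involution from its cell. -/
theorem toMono_of_cell (h2 : Odd (Fintype.card F)) {g b n b' : GL T.I F} {w : Equiv.Perm (Fin T.n)}
    (hg : g * g = 1) (hb : b ∈ T.datum.borelSubgroup F) (hb' : b' ∈ T.datum.borelSubgroup F)
    (hn : n ∈ T.datum.monomialSubgroup F) (hm : T.Mono n w) (e : g = b * n * b') :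
    ToMono T g w := by
  classical
  have hww := cell_involution hT hC hg hb hb' hn hm e
  obtain ⟨c, hc, u, hu, rfl⟩ := cell_canonical hT hC hb hb' hn hm e
  have huB : u ∈ T.datum.borelSubgroup F := posU_le_borel hT (fun r h => h.2.1) hu
  obtain ⟨a, ha, h, hh, hah⟩ := (mem_borel_iff hT).mp (mul_mem huB hc)
  set m := h * n with hmdef
  have hmN : m ∈ T.datum.monomialSubgroup F := mul_mem (diag_le_N hT hh) hn
  have hmm : T.Mono m w := by
    have := (mono_diag hT hh).mul hm
    rwa [one_mul] at this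
  have hg1 : u * (c * n * u) * u⁻¹ = a * m := by
    calc u * (c * n * u) * u⁻¹ = (u * c) * n := by group
      _ = a * m := by rw [hah, hmdef, mul_assoc]
  have hsq : a * m * (a * m) = 1 := by
    rw [← hg1]
    calc u * (c * n * u) * u⁻¹ * (u * (c * n * u) * u⁻¹)
        = u * ((c * n * u) * (c * n * u)) * u⁻¹ := by group
      _ = 1 := by rw [hg]; group
  have haU : a ∈ T.rootGen F (fun r => T.half ≤ r) := by rwa [← posUnipotent_rootGen hT]
  obtain ⟨p, hp, q, hq, rfl⟩ := exists_factor hT hC (T.posSet w) (T.negSet w) (fun r hr hrp => by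
    rcases Nat.lt_or_ge (w ⟨r, hr⟩).val T.half with h | h
    · exact Or.inr ⟨hr, hrp, h⟩
    · exact Or.inl ⟨hr, hrp, h⟩) T.half T.half (Nat.two_mul _).symm le_rfl a haU
  have hmd : m * m ∈ T.datum.diagonalSubgroup F := by
    refine mem_diag_of_mono_one hT (mul_mem hmN hmN) ?_
    have := hmm.mul hmm
    rwa [hww] at this
  have hpm : m * p * m⁻¹ ∈ T.datum.posUnipotent F := by
    rw [posUnipotent_rootGen hT]
    exact conj_mem_rootGen hT hmm (fun s ⟨_, _, h⟩ => h) hp
  have hqm : m * q * m⁻¹ ∈ T.datum.negUnipotent F := by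
    rw [negUnipotent_rootGen hT]
    exact conj_mem_rootGen hT hmm (fun s ⟨_, _, h⟩ => h) hq
  have key : (m * p * m⁻¹) * (m * q * m⁻¹) * (m * m) = (p * q)⁻¹ := by
    apply mul_left_cancel (a := p * q)
    rw [mul_inv_cancel, ← hsq]
    group
  have hpB : p * q ∈ T.datum.borelSubgroup F := posU_le_borel hT (fun r h => h) haU
  have hq0 : m * q * m⁻¹ ∈ (⊥ : Subgroup (GL T.I F)) := by
    rw [← borel_inf_neg (T := T) (F := F) hT]
    refine Subgroup.mem_inf.mpr ⟨?_, hqm⟩
    have e2 : m * q * m⁻¹ = (m * p * m⁻¹)⁻¹ * (p * q)⁻¹ * (m * m)⁻¹ := by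
      rw [← key]; group
    rw [e2]
    exact mul_mem (mul_mem (inv_mem (Subgroup.mem_sup_left hpm)) (inv_mem hpB))
      (inv_mem (Subgroup.mem_sup_right hmd))
  rw [Subgroup.mem_bot, conj_eq_one_iff] at hq0
  subst hq0
  simp only [mul_one] at key haU hg1 hah hsq
  rw [mul_inv_cancel, mul_one] at key
  have hm1 : m * m = 1 := by
    have h1 : m * m ∈ (⊥ : Subgroup (GL T.I F)) := by
      rw [← pos_inf_diag (T := T) (F := F) hT]
      refine Subgroup.mem_inf.mpr ⟨?_, hmd⟩
      have e2 : m * m = (m * p * m⁻¹)⁻¹ * p⁻¹ := by rw [← key]; group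
      rw [e2]
      exact mul_mem (inv_mem hpm) (inv_mem (by rwa [posUnipotent_rootGen hT]))
    rwa [Subgroup.mem_bot] at h1
  rw [hm1, mul_one] at key
  -- a square root of `p`
  have hodd : Odd (orderOf p) := by
    have hcard : Nat.card (T.rootGen F (fun r => T.half ≤ r)) = Fintype.card F ^ T.half :=
      card_ge hT hC T.half T.half (Nat.two_mul _).symm le_rfl
    refine Odd.of_dvd_nat (h2.pow (n := T.half)) ?_
    rw [← hcard, ← Subgroup.orderOf_mk p haU]
    exact orderOf_dvd_natCard _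
  obtain ⟨k, hk⟩ := hodd
  set s := p ^ (k + 1) with hs
  have hss : s * s = p := by
    rw [hs, ← pow_add, show k + 1 + (k + 1) = orderOf p + 1 by omega, pow_succ, pow_orderOf_eq_one,
      one_mul]
  have hsm : m * s * m⁻¹ = s⁻¹ := by
    rw [hs, ← MulAut.conj_apply, map_pow, MulAut.conj_apply, key, inv_pow]
  have hsG : s ∈ T.datum.group F := pow_mem (borel_le_group hT (posU_le_borel hT (fun r h => h) haU)) _
  refine ⟨s⁻¹ * u, mul_mem (inv_mem hsG) (borel_le_group hT huB), m, hmN, hm1, hmm, ?_⟩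
  calc s⁻¹ * u * (c * n * u) * (s⁻¹ * u)⁻¹ = s⁻¹ * (u * (c * n * u) * u⁻¹) * s := by group
    _ = s⁻¹ * (s * s) * m * s := by rw [hg1, hss]; group
    _ = s * (m * s * m⁻¹) * m := by group
    _ = m := by rw [hsm]; group

/-- Every involution is conjugate to a monomial involution. -/
theorem exists_toMono (h2 : Odd (Fintype.card F)) {g : GL T.I F} (hgG : g ∈ T.datum.group F)
    (hg : g * g = 1) : ∃ w ∈ T.WP hT, ToMono T g w := by
  obtain ⟨b, hb, n, hn, w, hw, hm, u, hu, e⟩ := exists_canonical hT hC hgG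
  exact ⟨w, hw, toMono_of_cell hT hC h2 hg hb (posU_le_borel hT (fun r h => h.2.1) hu) hn hm e⟩

end CfsgLib.Chevalley.OddInvolution
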