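import Cfsg.Agent.Lib.Chevalley.OddInvolution.Steps
import Cfsg.Agent.Lib.Chevalley.OddInvolution.Check
import Cfsg.Agent.Lib.Chevalley.CoxeterTorus.Main
import Mathlib.NumberTheory.LegendreSymbol.QuadraticChar.Basic

/-!
Every involution of a certified Chevalley group in odd characteristic is conjugate to a diagonal one.
-/

set_option autoImplicit false

namespace CfsgLib.Chevalley.OddInvolution

open Tbl CoxeterTorus

/-- The certificates of a table. -/
structure Cert (T : Tbl) (special : List (ℕ × List ℕ)) : Prop where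
  valid : T.Valid
  comm : T.chkComm = true
  inj : chkCoInj T = true
  masks : allLt (chkMask T special) (2 ^ T.rank) = true

variable {T : Tbl} {F : Type*} [Field F]

theorem a2Data_of_chk {i j : ℕ} (h : chkA2 T i j = true) : ∃ k, A2Data T i j k := by
  unfold chkA2 at h
  cases hs : T.sum? (T.simple i) (T.simple j) with
  | none => simp [hs] at h
  | some p =>
    obtain ⟨k, N⟩ := p
    simp only [hs, Bool.and_eq_true, decide_eq_true_eq, chkTerm, allLt_iff, List.all_eq_true,
      List.isEmpty_iff] at h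
    obtain ⟨⟨⟨⟨⟨⟨⟨⟨⟨⟨⟨⟨⟨⟨⟨hi, hj⟩, hk⟩, hp⟩, hco⟩, hN⟩, h1⟩, h2⟩, hpair⟩, t1⟩, t2⟩, t3⟩, n1⟩, n2⟩,
      n3⟩, hr⟩ := h
    exact ⟨k, Nat.le_of_ble_eq_true hi, Nat.le_of_ble_eq_true hj, Nat.le_of_ble_eq_true hk,
      Nat.le_of_ble_eq_true hp, hco, ⟨N, hN, h1, h2⟩, hpair, t1, t2, t3, n1, n2, n3, hr⟩

theorem co_eq_imp {special : List (ℕ × List ℕ)} (hc : Cert T special) {r s : Fin T.n}
    (h : ∀ j < T.rank, T.co r.val j = T.co s.val j) : r = s := by
  have h1 := allLt_iff.mp (allLt_iff.mp hc.inj r r.2) s s.2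
  simp only [Bool.or_eq_true, List.any_eq_true, List.mem_range, Bool.not_eq_true', decide_eq_false_iff_not] at h1
  rcases h1 with h1 | ⟨j, hj, h1⟩
  · exact Fin.ext (Nat.eq_of_beq_eq_true h1)
  · exact absurd (h j hj) h1

variable (hT : T.Valid)
include hT

theorem eta_neg_eq {i s : ℕ} (hi : i < T.rank) (hs : s < T.n) :
    T.eta i (T.neg s) = T.eta i s := by
  have := eta_neg hT hi hs
  rcases eta_sq hT hi hs with h | h <;> rw [h] at this ⊢ <;> omega

/-- Swapped scalars are carried by a fundamental `n`. -/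
theorem swaps_conj {m : GL T.I F} {j s : ℕ} (hj : j < T.rank) (hs : s < T.n) {c : Fˣ}
    (hc : Swaps T m s c) :
    Swaps T (T.nU F (T.simple j) 1 * m * (T.nU F (T.simple j) 1)⁻¹) (T.refl j s) c := by
  set n := T.nU F (T.simple j) 1 with hn
  have hee : (T.eta j s : F) * (T.eta j s : F) = 1 := by
    rcases eta_sq hT hj hs with h | h <;> simp [h]
  have h1 : ∀ t, n⁻¹ * T.xU F (T.refl j s) t = T.xU F s ((T.eta j s : F) * t) * n⁻¹ := fun t => by
    rw [inv_mul_eq_iff_eq_mul, ← mul_assoc, hn, nU_simple_xU hT hj hs, ← mul_assoc, hee, one_mul,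
      mul_inv_cancel_right]
  have h2 : ∀ t, n⁻¹ * T.xU F (T.neg (T.refl j s)) t =
      T.xU F (T.neg s) ((T.eta j s : F) * t) * n⁻¹ := fun t => by
    rw [inv_mul_eq_iff_eq_mul, ← mul_assoc, hn, nU_simple_xU hT hj (neg_lt' hs), eta_neg_eq hT hj hs,
      refl_neg hT hj hs, ← mul_assoc, hee, one_mul, mul_inv_cancel_right]
  have h3 : ∀ t, n * T.xU F s t = T.xU F (T.refl j s) ((T.eta j s : F) * t) * n := fun t =>
    nU_simple_xU hT hj hs t
  have h4 : ∀ t, n * T.xU F (T.neg s) t = T.xU F (T.neg (T.refl j s)) ((T.eta j s : F) * t) * n :=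
    fun t => by rw [hn, nU_simple_xU hT hj (neg_lt' hs), eta_neg_eq hT hj hs, refl_neg hT hj hs]
  intro t
  constructor
  · rw [mul_assoc _ n⁻¹, h1, ← mul_assoc, mul_assoc n m, (hc _).1, ← mul_assoc, h4, mul_assoc _ n m,
      mul_assoc _ (n * m) n⁻¹, mul_left_comm (T.eta j s : F) (c : F), ← mul_assoc (T.eta j s : F),
      hee, one_mul]
  · rw [mul_assoc _ n⁻¹, h2, ← mul_assoc, mul_assoc n m, (hc _).2, ← mul_assoc, h3, mul_assoc _ n m,
      mul_assoc _ (n * m) n⁻¹, mul_left_comm (T.eta j s : F) ((c⁻¹ : Fˣ) : F),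
      ← mul_assoc (T.eta j s : F), hee, one_mul]

theorem sgnW_spec : ∀ (l : List (Fin T.rank)) (s : Fin T.n),
    (sgnW T (l.map Fin.val) s.val).1 = (T.pw hT l s).val ∧
      ∀ t : F, T.nw F l * T.xU F s.val t = T.xU F (T.pw hT l s).val
        ((bif (sgnW T (l.map Fin.val) s.val).2 then (-1 : F) else 1) * t) * T.nw F l
  | [], s => by simp [sgnW_nil, pw_nil, nw]
  | i :: l, s => by
    obtain ⟨e1, e2⟩ := sgnW_spec l s
    refine ⟨?_, fun t => ?_⟩
    · simp only [List.map_cons, sgnW_cons, e1, pw_cons, Equiv.Perm.mul_apply, refP_apply]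
    · show T.nU F (T.simple i.val) 1 * T.nw F l * T.xU F s.val t = _ * (T.nU F (T.simple i.val) 1 * T.nw F l)
      rw [mul_assoc, e2, ← mul_assoc, nU_simple_xU hT i.2 (T.pw hT l s).2, mul_assoc]
      simp only [List.map_cons, sgnW_cons, e1, pw_cons, Equiv.Perm.mul_apply, refP_apply]
      rw [← mul_assoc (T.eta i.val (T.pw hT l s).val : F)]
      congr 3
      rcases eta_sq hT i.2 (T.pw hT l s).2 with h | h <;>
        cases (sgnW T (l.map Fin.val) s.val).2 <;> simp [h]

theorem co_pw_outside : ∀ (l : List (Fin T.rank)) (s : Fin T.n) {k : ℕ}, k < T.rank →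
    (∀ i ∈ l, i.val ≠ k) → T.co (T.pw hT l s).val k = T.co s.val k
  | [], s, k, _, _ => by simp [pw_nil]
  | i :: l, s, k, hk, h => by
    rw [pw_cons, Equiv.Perm.mul_apply, refP_apply, co_refl hT i.2 (T.pw hT l s).2 hk,
      if_neg (fun e => h i (List.mem_cons_self ..) e.symm), sub_zero]
    exact co_pw_outside l s hk fun a ha => h a (List.mem_cons_of_mem _ ha)

/-- A balanced involution negating exactly the fundamental roots of `J` is the given word. -/
theorem eq_pw {w : Equiv.Perm (Fin T.n)} (hw : w ∈ T.WP hT) (hww : w * w = 1)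
    (J : Fin T.rank → Prop) (hJ : ∀ i, J i → w (T.simpF hT i) = T.negF (T.simpF hT i))
    (hout : ∀ i, ¬ J i → T.half ≤ (w (T.simpF hT i)).val) (l : List (Fin T.rank))
    (hl : ∀ i ∈ l, J i) (hlJ : ∀ i, J i → T.pw hT l (T.simpF hT i) = T.negF (T.simpF hT i)) :
    w = T.pw hT l := by
  set x := (T.pw hT l)⁻¹ with hx
  have hxP : x ∈ T.WP hT := inv_mem (pw_mem hT l)
  have hxJ : ∀ i, J i → x (T.simpF hT i) = T.negF (T.simpF hT i) := by
    intro i hi
    apply (T.pw hT l).injective
    rw [show T.pw hT l (x (T.simpF hT i)) = T.simpF hT i from (T.pw hT l).apply_symm_apply _,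
      WP_negF hT (pw_mem hT l), hlJ i hi, negF_negF]
  suffices h : w * x = 1 by
    rw [mul_eq_one_iff_eq_inv.mp h, hx, inv_inv]
  refine eq_one_of_pos hT (mul_mem hw hxP) fun j => ?_
  rw [Equiv.Perm.mul_apply]
  by_cases hj : J j
  · rw [hxJ j hj, WP_negF hT hw, hJ j hj, negF_negF]
    exact half_le_simpF hT j
  · have hnotl : ∀ k : Fin T.rank, ¬ J k → ∀ i ∈ l, i.val ≠ k.val := fun k hk i hi e =>
      hk (by obtain rfl : i = k := Fin.ext e; exact hl i hi)
    have hy : ∀ k : Fin T.rank, ¬ J k →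
        T.co (x (T.simpF hT j)).val k.val = T.co (T.simpF hT j).val k.val := by
      intro k hk
      have h := co_pw_outside hT l (x (T.simpF hT j)) k.2 (hnotl k hk)
      rw [show T.pw hT l (x (T.simpF hT j)) = T.simpF hT j from (T.pw hT l).apply_symm_apply _] at h
      exact h.symm
    have hwy : ∀ k : Fin T.rank, ¬ J k →
        T.co (w (x (T.simpF hT j))).val k.val = T.co (w (T.simpF hT j)).val k.val := by
      intro k hk
      rw [WP_linear hT hw (x (T.simpF hT j)) k.2, WP_linear hT hw (T.simpF hT j) k.2]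
      refine Finset.sum_congr rfl fun i _ => ?_
      by_cases hi : J i
      · rw [hJ i hi, co_of_eq_neg hT rfl k.2, co_simpF hT i k.2,
          if_neg (fun e => hk (by obtain rfl : k = i := Fin.ext e; exact hi))]
        simp
      · rw [hy i hi]
    have hpos := hout j hj
    obtain ⟨k, hk, hkpos⟩ : ∃ k : Fin T.rank, ¬ J k ∧ 0 < T.co (w (T.simpF hT j)).val k.val := by
      by_contra hcon
      push Not at hcon
      have hz : ∀ k : Fin T.rank, ¬ J k → T.co (w (T.simpF hT j)).val k.val = 0 := fun k hk =>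
        le_antisymm (hcon k hk) (co_nonneg' hT hpos k.2)
      have h1 := WP_linear hT hw (w (T.simpF hT j)) j.2
      rw [← Equiv.Perm.mul_apply, hww, Equiv.Perm.one_apply, co_simpF hT j j.2, if_pos rfl] at h1
      have h2 : ∑ i : Fin T.rank, T.co (w (T.simpF hT j)).val i.val * T.co (w (T.simpF hT i)).val j.val
          ≤ 0 := by
        refine Finset.sum_nonpos fun i _ => ?_
        by_cases hi : J i
        · refine mul_nonpos_of_nonneg_of_nonpos (co_nonneg' hT hpos i.2) ?_
          exact co_nonpos' hT (by rw [hJ i hi]; exact negF_lt (half_le_simpF hT i)) j.2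
        · rw [hz i hi, zero_mul]
      omega
    by_contra hlt
    have := co_nonpos' hT (not_le.mp hlt) k.2
    rw [hwy k hk] at this
    omega

variable (hC : T.chkComm = true) [Fintype F]
include hC

/-- No monomial involution has non-square scalars on all of a certified set. -/
theorem parity_contradiction (h2 : Odd (Fintype.card F)) {m : GL T.I F}
    (hm : m ∈ T.datum.monomialSubgroup F) (hm2 : m * m = 1) {mask : ℕ} {l : List (Fin T.rank)}
    (hchk : chkParity T (l.map Fin.val) mask = true) (hmw : T.Mono m (T.pw hT l))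
    (hns : ∀ i : Fin T.rank, mask.testBit i.val = true → ∀ c, Swaps T m (T.simple i) c → ¬ IsSquare c) :
    False := by
  classical
  simp only [chkParity, Bool.and_eq_true, List.all_eq_true, allLt_iff, Bool.or_eq_true,
    Bool.not_eq_true', decide_eq_true_eq, List.any_eq_true, List.mem_range] at hchk
  obtain ⟨⟨⟨-, hneg⟩, hw0⟩, hw1⟩ := hchk
  have hchar : ringChar F ≠ 2 := fun h => by
    have := FiniteField.even_card_of_char_two h
    obtain ⟨k, hk⟩ := h2; omega
  let ψ : Fˣ →* ℤˣ := (quadraticChar F).toUnitHom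
  have hψsq : ∀ x : Fˣ, ¬ IsSquare x → ψ x = -1 := by
    intro x hx
    apply Units.ext
    rw [show ((ψ x : ℤˣ) : ℤ) = quadraticChar F (x : F) from MulChar.coe_toUnitHom _ _]
    refine quadraticChar_neg_one_iff_not_isSquare.mpr fun ⟨y, hy⟩ => hx ?_
    have hy0 : y ≠ 0 := fun h => x.ne_zero (by rw [hy, h, mul_zero])
    exact ⟨Units.mk0 y hy0, Units.ext hy⟩
  obtain ⟨σ, hσψ, hwit⟩ : ∃ σ : ℤ, ψ (-1) = (-1) ^ σ ∧
      ∃ s, s < T.n ∧ chkWit T (l.map Fin.val) mask σ s = true := by
    rcases Int.units_eq_one_or (ψ (-1)) with h | h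
    · exact ⟨0, by simp [h], hw0⟩
    · exact ⟨1, by simp [h], hw1⟩
  set h := m * (T.nw F l)⁻¹ with hh
  have hhd : h ∈ T.datum.diagonalSubgroup F := by
    refine mem_diag_of_mono_one hT (mul_mem hm (inv_mem (nw_mem hT l))) ?_
    have := hmw.mul (mono_nw (F := F) hT l).inv
    rwa [mul_inv_cancel] at this
  obtain ⟨f, hf⟩ : ∃ f, torusHom T F f = h := by
    rw [← MonoidHom.mem_range, torusHom_range hT]; exact hhd
  let E : Fin T.n → Fˣ := fun s => bif (sgnW T (l.map Fin.val) s.val).2 then -1 else 1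
  let C : Fin T.n → Fˣ := fun s => tCh T f (T.pw hT l s).val * E s
  have hconj : ∀ (s : Fin T.n) (t : F),
      m * T.xU F s.val t = T.xU F (T.pw hT l s).val ((C s : F) * t) * m := by
    intro s t
    have hE : ((E s : Fˣ) : F) = bif (sgnW T (l.map Fin.val) s.val).2 then (-1 : F) else 1 := by
      show ((bif (sgnW T (l.map Fin.val) s.val).2 then (-1 : Fˣ) else 1 : Fˣ) : F) = _
      cases (sgnW T (l.map Fin.val) s.val).2 <;> simp
    have e : m = torusHom T F f * T.nw F l := by rw [hf, hh, inv_mul_cancel_right]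
    rw [e, mul_assoc, (sgnW_spec hT l s).2, ← mul_assoc, torus_xU hT, mul_assoc]
    congr 2
    simp [C, hE, mul_assoc]
  have hww : T.pw hT l * T.pw hT l = 1 := by
    have h1 := hmw.mul hmw
    rw [hm2] at h1
    exact h1.unique Mono.one
  have hrel : ∀ s : Fin T.n, C (T.pw hT l s) * C s = 1 := by
    intro s
    have h1 := hconj s 1
    have h2' := congrArg (fun x => m * x) h1
    simp only [← mul_assoc] at h2'
    rw [hm2, one_mul, hconj, ← Equiv.Perm.mul_apply, hww, Equiv.Perm.one_apply, mul_assoc, hm2,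
      mul_one, mul_one] at h2'
    exact (Units.ext (xU_inj hT s.2 h2').symm)
  obtain ⟨s, hs, hwit⟩ := hwit
  simp only [chkWit, Bool.and_eq_true, allLt_iff, Bool.or_eq_true, decide_eq_true_eq] at hwit
  obtain ⟨hout, hodd⟩ := hwit
  let S : Fin T.n := ⟨s, hs⟩
  have hp : (sgnW T (l.map Fin.val) s).1 = (T.pw hT l S).val := (sgnW_spec (F := F) hT l S).1
  rw [hp] at hout hodd
  have hψE : ∀ r : Fin T.n,
      ψ (E r) = (-1) ^ (bif (sgnW T (l.map Fin.val) r.val).2 then σ else 0) := fun r => by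
    show ψ (bif (sgnW T (l.map Fin.val) r.val).2 then (-1 : Fˣ) else 1) = _
    cases (sgnW T (l.map Fin.val) r.val).2 <;> simp [hσψ]
  let ε : Fin T.rank → ℤ := fun i => 1 + (bif (sgnW T (l.map Fin.val) (T.simple i.val)).2 then σ else 0)
  have hψi : ∀ i : Fin T.rank, mask.testBit i.val = true →
      ψ (tCh T f (T.simple i.val)) = (-1) ^ ε i := by
    intro i hi
    have hn := (hneg i i.2).resolve_left (by simp [hi])
    have hpi : T.pw hT l (T.simpF hT i) = T.negF (T.simpF hT i) := by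
      apply Fin.ext
      rw [← (sgnW_spec (F := F) hT l _).1]
      exact hn
    obtain ⟨c, hc⟩ := exists_swaps hmw hpi
    have hcC : c = C (T.simpF hT i) := by
      have h1 := hconj (T.simpF hT i) 1
      rw [(hc 1).1, hpi, mul_one, mul_one] at h1
      exact Units.ext (xU_inj hT (neg_lt' (simple_lt hT i.2)) (mul_right_cancel h1))
    have h1 := hψsq c (hns i hi c hc)
    rw [hcC] at h1
    simp only [C, map_mul, hψE] at h1
    rw [hpi, show tCh T f (T.negF (T.simpF hT i)).val = (tCh T f (T.simple i.val))⁻¹ from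
      (isChar_prod hT f).neg _ (simple_lt hT i.2), map_inv, inv_mul_eq_iff_eq_mul] at h1
    have hneg1 : ∀ a b : ℤˣ, b = a * (-1) → a = -b := fun a b h => by rw [h]; simp
    rw [hneg1 _ _ h1]
    show -((-1 : ℤˣ) ^ _) = (-1) ^ (1 + _)
    rw [_root_.zpow_add, zpow_one, neg_one_mul]
    rfl
  have key : ∀ r : Fin T.n, ψ (tCh T f r.val) =
      ∏ i : Fin T.rank, ψ (tCh T f (T.simple i.val)) ^ T.co r.val i.val := fun r => by
    rw [tCh_linear hT, map_prod]
    exact Finset.prod_congr rfl fun i _ => map_zpow _ _ _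
  have e1 := congrArg ψ (hrel S)
  simp only [C, map_mul, map_one] at e1
  rw [← Equiv.Perm.mul_apply, hww, Equiv.Perm.one_apply, hψE, hψE, key, key] at e1
  have hterm : ∀ i : Fin T.rank,
      ψ (tCh T f (T.simple i.val)) ^ T.co S.val i.val *
        ψ (tCh T f (T.simple i.val)) ^ T.co (T.pw hT l S).val i.val =
      (-1) ^ (bif mask.testBit i.val then (T.co s i.val + T.co (T.pw hT l S).val i.val) * ε i else 0) := by
    intro i
    rw [← _root_.zpow_add]
    cases hb : mask.testBit i.val with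
    | true => rw [hψi i hb, ← _root_.zpow_mul, cond_true, mul_comm]
    | false =>
      obtain ⟨k, hk⟩ : (2 : ℤ) ∣ T.co s i.val + T.co (T.pw hT l S).val i.val :=
        Int.dvd_of_emod_eq_zero ((hout i i.2).resolve_left (by simp [hb]))
      rw [cond_false, zpow_zero, show T.co S.val i.val + T.co (T.pw hT l S).val i.val = 2 * k from hk,
        _root_.zpow_mul]
      rcases Int.units_eq_one_or (ψ (tCh T f (T.simple i.val))) with h | h <;> simp [h]
  have e2 : (-1 : ℤˣ) ^ (((List.range T.rank).map fun i =>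
      bif mask.testBit i then
        (T.co s i + T.co (T.pw hT l S).val i) *
          (1 + (bif (sgnW T (l.map Fin.val) (T.simple i)).2 then σ else 0))
      else 0).sum +
      ((bif (sgnW T (l.map Fin.val) (T.pw hT l S).val).2 then σ else 0) +
        (bif (sgnW T (l.map Fin.val) s).2 then σ else 0))) = 1 := by
    rw [list_sum_range, _root_.zpow_add, _root_.zpow_add, zpow_sum_eq,
      ← Finset.prod_congr rfl fun i _ => hterm i, Finset.prod_mul_distrib]
    exact (mul_mul_mul_comm _ _ _ _).trans e1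
  set A := ((List.range T.rank).map fun i =>
      bif mask.testBit i then
        (T.co s i + T.co (T.pw hT l S).val i) *
          (1 + (bif (sgnW T (l.map Fin.val) (T.simple i)).2 then σ else 0))
      else 0).sum
  set x := bif (sgnW T (l.map Fin.val) (T.pw hT l S).val).2 then σ else 0
  set y := bif (sgnW T (l.map Fin.val) s).2 then σ else 0
  obtain ⟨k, hk⟩ : ∃ k, A + (x + y) = 2 * k + 1 := ⟨(A + (x + y)) / 2, by omega⟩
  rw [hk, _root_.zpow_add, _root_.zpow_mul, zpow_one] at e2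
  simp at e2

omit hT hC in
/-- Reduction to diagonal involutions. -/
theorem exists_diag {special : List (ℕ × List ℕ)} (hc : Cert T special)
    (h2 : Odd (Fintype.card F)) {g : GL T.I F} (hgG : g ∈ T.datum.group F) (hg : g * g = 1) :
    ∃ x ∈ T.datum.group F, x * g * x⁻¹ ∈ T.datum.diagonalSubgroup F := by
  classical
  have hT := hc.valid
  have hC := hc.comm
  suffices h : ∀ (k : ℕ) (w : Equiv.Perm (Fin T.n)), w ∈ T.WP hT → negCount T w ≤ k → ToMono T g w →
      ∃ x ∈ T.datum.group F, x * g * x⁻¹ ∈ T.datum.diagonalSubgroup F by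
    obtain ⟨w, hw, hto⟩ := exists_toMono hT hC h2 hgG hg
    exact h _ w hw le_rfl hto
  intro k
  induction k using Nat.strong_induction_on with
  | _ k IH =>
  intro w hw hk hto
  obtain ⟨x, hx, m, hm, hm2, hmw, hxm⟩ := hto
  have hww : w * w = 1 := by
    have h1 := hmw.mul hmw
    rw [hm2] at h1
    exact h1.unique Mono.one
  obtain ⟨v, hv, hbal⟩ := exists_balanced hT hw hww
  obtain ⟨l, rfl⟩ := exists_pw hT hv
  set n := T.nw F l with hn
  have hnN : n ∈ T.datum.monomialSubgroup F := nw_mem hT l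
  set m' := n * m * n⁻¹ with hm'
  set w' := T.pw hT l * w * (T.pw hT l)⁻¹ with hw'
  have hm'N : m' ∈ T.datum.monomialSubgroup F := mul_mem (mul_mem hnN hm) (inv_mem hnN)
  have hm'2 : m' * m' = 1 := by
    rw [hm', show n * m * n⁻¹ * (n * m * n⁻¹) = n * (m * m) * n⁻¹ by group, hm2]
    group
  have hm'w : T.Mono m' w' := ((mono_nw hT l).mul hmw).mul (mono_nw hT l).inv
  have hw'P : w' ∈ T.WP hT := mul_mem (mul_mem hv hw) (inv_mem hv)
  have hw'2 : w' * w' = 1 := by
    rw [hw', show T.pw hT l * w * (T.pw hT l)⁻¹ * (T.pw hT l * w * (T.pw hT l)⁻¹) =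
      T.pw hT l * (w * w) * (T.pw hT l)⁻¹ by group, hww]
    group
  have hcnt : negCount T w' = negCount T w := negCount_conj hT hv w
  have hgm : (n * x) * g * (n * x)⁻¹ = m' := by rw [hm', ← hxm]; group
  have hnxG : n * x ∈ T.datum.group F := mul_mem (monomial_le_group hT hnN) hx
  have finish : ∀ (w'' : Equiv.Perm (Fin T.n)) (m'' y : GL T.I F), y ∈ T.datum.group F →
      y * g * y⁻¹ = m'' → w'' ∈ T.WP hT → negCount T w'' < negCount T w' → ToMono T m'' w'' →
      ∃ x ∈ T.datum.group F, x * g * x⁻¹ ∈ T.datum.diagonalSubgroup F := by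
    intro w'' m'' y hy he hw'' hlt hto'
    exact IH (negCount T w'') (by omega) w'' hw'' le_rfl (ToMono.conj hy he hto')
  -- the set of negated fundamental roots
  set mask := Nat.ofBits fun i : Fin T.rank => decide ((w' (T.simpF hT i)).val < T.half) with hmask
  have hbit : ∀ i : Fin T.rank, mask.testBit i.val = true ↔ (w' (T.simpF hT i)).val < T.half := by
    intro i
    rw [hmask, Nat.testBit_ofBits_lt _ _ i.2]
    exact decide_eq_true_iff
  have hM := allLt_iff.mp hc.masks mask (Nat.ofBits_lt_two_pow _)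
  simp only [chkMask, Bool.or_eq_true, List.any_eq_true, Bool.and_eq_true, List.mem_range] at hM
  rcases hM with (h0 | ⟨i, hi, j, hj, ⟨hbi, hbj⟩, hA2⟩) | hpar
  · have hw1 : w' = 1 := eq_one_of_pos hT hw'P fun i => by
      by_contra hlt
      have := (hbit i).mpr (not_le.mp hlt)
      rw [Nat.eq_of_beq_eq_true h0, Nat.zero_testBit] at this
      exact Bool.noConfusion this
    refine ⟨n * x, hnxG, ?_⟩
    rw [hgm]
    exact mem_diag_of_mono_one hT hm'N (hw1 ▸ hm'w)
  · obtain ⟨k', hA⟩ := a2Data_of_chk hA2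
    have hwi := hbal ⟨i, hi⟩ ((hbit ⟨i, hi⟩).mp hbi)
    have hwj := hbal ⟨j, hj⟩ ((hbit ⟨j, hj⟩).mp hbj)
    obtain ⟨ca, hca⟩ := exists_swaps hm'w hwi
    obtain ⟨cb, hcb⟩ := exists_swaps hm'w hwj
    have hwk : w' ⟨k', hA.hk⟩ = T.negF ⟨k', hA.hk⟩ := by
      refine co_eq_imp hc fun c hcr => ?_
      rw [WP_linear hT hw'P ⟨k', hA.hk⟩ hcr, co_of_eq_neg hT rfl hcr,
        Finset.sum_congr rfl fun (l : Fin T.rank) _ => by rw [hA.co l l.2, add_mul]]
      show ∑ x : Fin T.rank, (T.co (T.simpF hT ⟨i, hi⟩).val x.val * T.co (w' (T.simpF hT x)).val c +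
        T.co (T.simpF hT ⟨j, hj⟩).val x.val * T.co (w' (T.simpF hT x)).val c) = _
      rw [Finset.sum_add_distrib, ← WP_linear hT hw'P (T.simpF hT ⟨i, hi⟩) hcr,
        ← WP_linear hT hw'P (T.simpF hT ⟨j, hj⟩) hcr, hwi, hwj, co_of_eq_neg hT rfl hcr,
        co_of_eq_neg hT rfl hcr]
      show _ = -T.co k' c
      rw [hA.co c hcr]
      show -T.co (T.simple i) c + -T.co (T.simple j) c = _
      ring
    obtain ⟨cc, hcc⟩ := exists_swaps hm'w hwk
    by_cases hsa : IsSquare ca
    · obtain ⟨w'', h1, h2', h3⟩ := step_square hT hC h2 hm'N hm'2 hm'w hwi hca hsa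
      exact finish w'' m' _ hnxG hgm h1 h2' h3
    by_cases hsb : IsSquare cb
    · obtain ⟨w'', h1, h2', h3⟩ := step_square hT hC h2 hm'N hm'2 hm'w hwj hcb hsb
      exact finish w'' m' _ hnxG hgm h1 h2' h3
    by_cases hsc : IsSquare cc
    · set nb := T.nU F (T.simple j) 1 with hnb
      have hnbm := mono_nU_simple (F := F) hT ⟨j, hj⟩
      have hnbN : nb ∈ T.datum.monomialSubgroup F := nU_simple_mem_N hT ⟨j, hj⟩
      set m'' := nb * m' * nb⁻¹ with hm''
      set w2 := T.refP hT ⟨j, hj⟩ * w' * (T.refP hT ⟨j, hj⟩)⁻¹ with hw2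
      have hjP : T.refP hT ⟨j, hj⟩ ∈ T.WP hT := Subgroup.subset_closure ⟨_, rfl⟩
      have hkimg : T.refP hT ⟨j, hj⟩ ⟨k', hA.hk⟩ = T.simpF hT ⟨i, hi⟩ := Fin.ext hA.refl
      have hw2i : w2 (T.simpF hT ⟨i, hi⟩) = T.negF (T.simpF hT ⟨i, hi⟩) := by
        rw [hw2, ← hkimg, Equiv.Perm.mul_apply, Equiv.Perm.mul_apply,
          show (T.refP hT ⟨j, hj⟩)⁻¹ (T.refP hT ⟨j, hj⟩ ⟨k', hA.hk⟩) = ⟨k', hA.hk⟩ from
            Equiv.symm_apply_apply _ _, hwk, WP_negF hT hjP]
      have hsw : Swaps T m'' (T.simple i) cc := by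
        have := swaps_conj hT (j := j) hj hA.hk hcc
        rwa [hA.refl] at this
      have hm''2 : m'' * m'' = 1 := by
        rw [hm'', show nb * m' * nb⁻¹ * (nb * m' * nb⁻¹) = nb * (m' * m') * nb⁻¹ by group, hm'2]
        group
      obtain ⟨w'', h1, h2', h3⟩ := step_square hT hC h2 (mul_mem (mul_mem hnbN hm'N) (inv_mem hnbN))
        hm''2 ((hnbm.mul hm'w).mul hnbm.inv) hw2i hsw hsc
      exact finish w'' m'' (nb * (n * x)) (mul_mem (monomial_le_group hT hnbN) hnxG)
        (by rw [hm'', ← hgm]; group) h1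
        (by rwa [negCount_conj hT hjP] at h2') h3
    have hsum := swaps_sum hT hC hA hca hcb hcc
    have hchar : ringChar F ≠ 2 := fun h => by
      have := FiniteField.even_card_of_char_two h
      obtain ⟨k, hk⟩ := h2; omega
    have hU : ∀ {c : Fˣ}, ¬ IsSquare c → ¬ IsSquare (c : F) := fun {c} hc ⟨y, hy⟩ => hc
      ⟨Units.mk0 y (fun h => c.ne_zero (by rw [hy, h, mul_zero])), Units.ext hy⟩
    have hq : ∀ {c : Fˣ}, ¬ IsSquare c → quadraticChar F (c : F) = -1 := fun hc =>
      quadraticChar_neg_one_iff_not_isSquare.mpr (hU hc)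
    have hm1 : quadraticChar F (-1) = -1 := by
      have h1 := hq hsc
      rw [hsum, neg_eq_neg_one_mul, map_mul, map_mul, hq hsa, hq hsb] at h1
      simpa using h1
    have hns : ∀ y : F, y * y ≠ -1 := fun y hy =>
      quadraticChar_neg_one_iff_not_isSquare.mp hm1 ⟨y, hy.symm⟩
    have hroot : ∀ {c : Fˣ}, ¬ IsSquare c → ∃ p : Fˣ, (c : F) = -((p : F) * p) := by
      intro c hc
      have h0 : -(c : F) ≠ 0 := neg_ne_zero.mpr c.ne_zero
      have h1 : quadraticChar F (-(c : F)) = 1 := by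
        rw [neg_eq_neg_one_mul, map_mul, hm1, hq hc]; norm_num
      obtain ⟨y, hy⟩ := (quadraticChar_one_iff_isSquare h0).mp h1
      exact ⟨Units.mk0 y (fun h => h0 (by rw [hy, h, mul_zero])), by
        rw [Units.val_mk0, ← hy, neg_neg]⟩
    obtain ⟨p, hp⟩ := hroot hsa
    obtain ⟨q, hq'⟩ := hroot hsc
    obtain ⟨w'', h1, h2', h3⟩ := step_a2 hT hC h2 hm'N hm'2 hm'w hA hwi hwj hwk hca hcc hp hq' hns
    exact finish w'' m' _ hnxG hgm h1 h2' h3
  · set L := (special.lookup mask).getD ((List.range T.rank).filter mask.testBit) with hL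
    by_cases hsq : ∃ i : Fin T.rank, mask.testBit i.val = true ∧
        ∃ c, Swaps T m' (T.simple i) c ∧ IsSquare c
    · obtain ⟨i, hi, c, hc', hs⟩ := hsq
      obtain ⟨w'', h1, h2', h3⟩ := step_square hT hC h2 hm'N hm'2 hm'w (hbal i ((hbit i).mp hi)) hc' hs
      exact finish w'' m' _ hnxG hgm h1 h2' h3
    have hpar' := hpar
    simp only [chkParity, Bool.and_eq_true, List.all_eq_true, allLt_iff, Bool.or_eq_true,
      Bool.not_eq_true', decide_eq_true_eq] at hpar'
    obtain ⟨⟨⟨hlet, hneg⟩, -⟩, -⟩ := hpar'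
    set l' : List (Fin T.rank) := L.pmap Fin.mk
      (fun a ha => Nat.le_of_ble_eq_true (hlet a ha).1) with hl'
    have hmap : l'.map Fin.val = L := by rw [hl']; simp [List.map_pmap]
    have hlJ : ∀ i ∈ l', mask.testBit i.val = true := fun i hi => by
      have : i.val ∈ L := by rw [← hmap]; exact List.mem_map.mpr ⟨i, hi, rfl⟩
      exact (hlet _ this).2
    have hwl : w' = T.pw hT l' := by
      refine eq_pw hT hw'P hw'2 (fun i => mask.testBit i.val = true)
        (fun i hi => hbal i ((hbit i).mp hi))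
        (fun i hi => not_lt.mp fun h => hi ((hbit i).mpr h)) l' hlJ fun i hi => ?_
      apply Fin.ext
      rw [← (sgnW_spec (F := F) hT l' _).1, hmap]
      exact (hneg i i.2).resolve_left (by simp [hi])
    push Not at hsq
    exact (parity_contradiction hT hC h2 hm'N hm'2 (hmap.symm ▸ hpar) (hwl ▸ hm'w)
      fun i hi c hc' => hsq i hi c hc').elim

end CfsgLib.Chevalley.OddInvolution
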