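import Cfsg.Agent.Lib.Chevalley.OddInvolution.Descent
import Mathlib.FieldTheory.Finite.Basic

/-!
Lowering the number of negated roots of a monomial involution: inside an `SL₂` when a scalar is a
square, inside an `A₂` otherwise.
-/

set_option autoImplicit false

namespace CfsgLib.Chevalley.OddInvolution

open Tbl

variable {T : Tbl} {F : Type*} [Field F]

/-- `m` exchanges the root elements of `±r` with scalar `c`. -/
def Swaps (T : Tbl) {F : Type*} [Field F] (m : GL T.I F) (r : ℕ) (c : Fˣ) : Prop :=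
  ∀ t : F, m * T.xU F r t = T.xU F (T.neg r) ((c : F) * t) * m ∧
    m * T.xU F (T.neg r) t = T.xU F r ((c⁻¹ : Fˣ) * t) * m

theorem exists_swaps {m : GL T.I F} {w : Equiv.Perm (Fin T.n)} (hm : T.Mono m w) {s : Fin T.n}
    (hs : w s = T.negF s) : ∃ c, Swaps T m s.val c := by
  obtain ⟨c, hc⟩ := hm.conj s
  refine ⟨c, fun t => ⟨?_, ?_⟩⟩
  · rw [(hc t).1, hs]; rfl
  · rw [(hc t).2, hs]
    show T.xU F (T.neg (T.neg s.val)) _ * m = _
    rw [neg_neg' s.2]

theorem Swaps.right {m : GL T.I F} {r : ℕ} {c : Fˣ} (h : Swaps T m r c) (t : F) :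
    T.xU F r t * m = m * T.xU F (T.neg r) ((c : F) * t) := by
  rw [(h _).2, ← mul_assoc, ← Units.val_mul, inv_mul_cancel, Units.val_one, one_mul]

variable (hT : T.Valid)
include hT

theorem hCh_mem_diag {r : ℕ} (hr : r < T.n) (c : Fˣ) :
    (T.dU (T.hCh r c) : GL T.I F) ∈ T.datum.diagonalSubgroup F := by
  rw [diagonalSubgroup_eq hT]
  exact Subgroup.subset_closure ⟨r, hr, c, rfl⟩

/-- Exchanging an upper and a lower root element. -/
theorem x_y_swap {r : ℕ} (hr : r < T.n) (v s : F) (D : Fˣ) (hD : (D : F) = 1 + v * s) :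
    T.xU F r v * T.xU F (T.neg r) s =
      T.xU F (T.neg r) (s / D) * T.dU (T.hCh r D) * T.xU F r (v / D) := by
  let S := sl2Data (F := F) hT hr
  let M1 : Matrix.SpecialLinearGroup (Fin 2) F := ⟨!![1, v; 0, 1], by simp [Matrix.det_fin_two]⟩
  let M2 : Matrix.SpecialLinearGroup (Fin 2) F := ⟨!![1, 0; s, 1], by simp [Matrix.det_fin_two]⟩
  let M3 : Matrix.SpecialLinearGroup (Fin 2) F :=
    ⟨!![1, 0; s / (D : F), 1], by simp [Matrix.det_fin_two]⟩
  let M4 : Matrix.SpecialLinearGroup (Fin 2) F :=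
    ⟨!![1, v / (D : F); 0, 1], by simp [Matrix.det_fin_two]⟩
  have e : M1 * M2 = M3 * SL2.dh D * M4 := by
    apply Subtype.ext
    show !![1, v; 0, 1] * !![1, 0; s, 1] =
      !![1, 0; s / (D : F), 1] * !![(D : F), 0; 0, (D : F)⁻¹] * !![1, v / (D : F); 0, 1]
    have hD0 : (D : F) ≠ 0 := D.ne_zero
    ext i j
    fin_cases i <;> fin_cases j <;> simp [Matrix.mul_apply] <;> field_simp <;> rw [hD] <;> ring
  have h1 : S.hom M1 = T.xU F r v := S.hom_upper _ _ rfl
  have h2 : S.hom M2 = T.xU F (T.neg r) s := S.hom_lower _ _ rfl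
  have h3 : S.hom M3 = T.xU F (T.neg r) (s / D) := S.hom_lower _ _ rfl
  have h4 : S.hom M4 = T.xU F r (v / D) := S.hom_upper _ _ rfl
  have h5 : S.hom (SL2.dh D) = T.dU (T.hCh r D) := by
    show S.map (SL2.dh D) = _
    rw [S.map_zero (g := SL2.dh D) (by simp [SL2.dh]) D (by simp [SL2.dh]),
      show (SL2.dh D).1 0 1 = 0 by simp [SL2.dh], zero_div, S.x_zero, mul_one]
    rfl
  rw [← h1, ← h2, ← h3, ← h4, ← h5, ← map_mul, ← map_mul, ← map_mul, e]

theorem nU_simple_facts (i : Fin T.rank) (u : Fˣ) :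
    T.nU F (T.simple i) (u : F) ∈ T.datum.monomialSubgroup F ∧
      T.Mono (T.nU F (T.simple i) (u : F)) (T.refP hT i) := by
  have hd : T.dU (T.hCh (T.simple i) u) ∈ T.datum.diagonalSubgroup F :=
    hCh_mem_diag hT (simple_lt hT i.2) u
  rw [nU_t hT (simple_lt hT i.2) u]
  refine ⟨mul_mem (diag_le_N hT hd) (nU_simple_mem_N hT i), ?_⟩
  have := (mono_diag hT hd).mul (mono_nU_simple (F := F) hT i)
  rwa [one_mul] at this

theorem neg_lt_half {r : ℕ} (h : T.half ≤ r) (hr : r < T.n) : T.neg r < T.half := by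
  unfold neg n at *; omega

variable (hC : T.chkComm = true) [Fintype F]
include hC

/-- The case of a square scalar at a fundamental root. -/
theorem step_square (h2 : Odd (Fintype.card F)) {m : GL T.I F} {w : Equiv.Perm (Fin T.n)}
    (hm : m ∈ T.datum.monomialSubgroup F) (hm2 : m * m = 1) (hw : T.Mono m w) {i : Fin T.rank}
    (hi : w (T.simpF hT i) = T.negF (T.simpF hT i)) {c : Fˣ} (hc : Swaps T m (T.simple i) c)
    (hsq : IsSquare c) :
    ∃ w' ∈ T.WP hT, negCount T w' < negCount T w ∧ ToMono T m w' := by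
  obtain ⟨d, rfl⟩ := hsq
  have hr := simple_lt hT i.2
  have hhalf : T.half ≤ T.simple i.val := half_le_simpF hT i
  set u : Fˣ := d⁻¹ with hu
  have hcu : ((d * d : Fˣ) : F) * (u : F) = ((u⁻¹ : Fˣ) : F) := by
    rw [← Units.val_mul, hu, inv_inv, mul_inv_cancel_right]
  set g := T.xU F (T.simple i) (u : F) * m * (T.xU F (T.simple i) (u : F))⁻¹ with hg
  have hxG : T.xU F (T.simple i) (u : F) ∈ T.datum.group F := xU_mem_group hT hr _
  have e : g = 1 * (T.nU F (T.simple i) (u : F) * m) *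
      T.xU F (T.neg (T.simple i)) (((d * d : Fˣ) : F) * -(u : F)) := by
    have hu' : -(u : F)⁻¹ = ((d * d : Fˣ) : F) * -(u : F) := by
      rw [mul_neg, hcu]; simp [hu]
    have hyz : T.xU F (T.neg (T.simple i)) (((d * d : Fˣ) : F) * (u : F)) *
        T.xU F (T.neg (T.simple i)) (((d * d : Fˣ) : F) * -(u : F)) = 1 := by
      rw [xU_add hT (neg_lt' hr), mul_neg, add_neg_cancel, xU_zero hT (neg_lt' hr)]
    rw [hg, xU_inv hT hr, one_mul, nU, hu', mul_assoc _ m, (hc _).1]
    simp only [mul_assoc]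
    rw [← mul_assoc (T.xU F (T.simple i) (u : F)) m, hc.right]
    simp only [mul_assoc]
    rw [hyz, mul_one]
  have hgg : g * g = 1 := by
    rw [hg, show T.xU F (T.simple i) (u : F) * m * (T.xU F (T.simple i) (u : F))⁻¹ *
      (T.xU F (T.simple i) (u : F) * m * (T.xU F (T.simple i) (u : F))⁻¹) =
      T.xU F (T.simple i) (u : F) * (m * m) * (T.xU F (T.simple i) (u : F))⁻¹ by group, hm2]
    group
  obtain ⟨hnN, hnm⟩ := nU_simple_facts (F := F) hT i u
  obtain ⟨v, hv, hto⟩ := toMono_of_negCell hT hC h2 hgg (one_mem _)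
    (xU_mem_rootGen (P := fun r => r < T.half) (neg_lt' hr) (neg_lt_half hT hhalf hr) _)
    (mul_mem hnN hm) (hnm.mul hw) e
  have hwP := mono_mem_WP hT hm hw
  refine ⟨_, mul_mem (mul_mem hv (mul_mem (Subgroup.subset_closure ⟨i, rfl⟩) hwP)) (inv_mem hv), ?_,
    ToMono.conj hxG hg.symm hto⟩
  rw [negCount_conj hT hv]
  refine negCount_refP_mul hT hwP ?_ hi
  have h1 := hw.mul hw
  rw [hm2] at h1
  exact h1.unique Mono.one

/-- The roots and commutator terms of an `A₂`. -/
structure A2Data (T : Tbl) (i j k : ℕ) : Prop where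
  hi : i < T.rank
  hj : j < T.rank
  hk : k < T.n
  pos : T.half ≤ k
  co : ∀ l < T.rank, T.co k l = T.co (T.simple i) l + T.co (T.simple j) l
  add : ∃ N : ℤ, N * N = 1 ∧ T.commT (T.simple i) (T.simple j) = [(k, N, 1, 1)] ∧
    T.commT (T.neg (T.simple i)) (T.neg (T.simple j)) = [(T.neg k, -N, 1, 1)]
  pair : T.pair k (T.simple i) = 1
  term1 : ∀ c ∈ T.commT (T.neg k) (T.simple i), c.1 = T.neg (T.simple j)
  term2 : T.commT (T.neg (T.simple j)) (T.simple i) = []
  term3 : ∀ c ∈ T.commT (T.neg (T.simple i)) k, c.1 = T.simple j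
  ne1 : T.simple i ≠ T.neg (T.neg k) ∧ T.simple i ≠ T.neg k
  ne2 : T.simple i ≠ T.neg (T.neg (T.simple j)) ∧ T.simple i ≠ T.neg (T.simple j)
  ne3 : T.simple j ≠ T.simple i ∧ T.simple j ≠ T.neg (T.simple i)
  refl : T.refl j k = T.simple i

omit [Fintype F] in
/-- The scalars of an `A₂` exchanged by `m`. -/
theorem swaps_sum {i j k : ℕ} (hA : A2Data T i j k) {m : GL T.I F} {ca cb cc : Fˣ}
    (ha : Swaps T m (T.simple i) ca) (hb : Swaps T m (T.simple j) cb) (hc : Swaps T m k cc) :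
    (cc : F) = -((ca : F) * cb) := by
  obtain ⟨N, hN, hpos, hneg⟩ := hA.add
  have hra := simple_lt hT hA.hi
  have hrb := simple_lt hT hA.hj
  have hrk := hA.hk
  have e1 := comm_xU (F := F) hT hC hra hrb hA.ne3.1 hA.ne3.2 1 1
  rw [hpos] at e1
  simp only [List.map_cons, List.map_nil, List.prod_cons, List.prod_nil, mul_one, pow_one] at e1
  have hne1 : T.neg (T.simple j) ≠ T.neg (T.simple i) := fun e =>
    hA.ne3.1 (by rw [← neg_neg' hrb, e, neg_neg' hra])
  have hne2 : T.neg (T.simple j) ≠ T.neg (T.neg (T.simple i)) := fun e =>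
    hA.ne3.2 (by
      have := congrArg T.neg e
      rwa [neg_neg' hrb, neg_neg' (neg_lt' hra)] at this)
  have e2 := comm_xU (F := F) hT hC (neg_lt' hra) (neg_lt' hrb) hne1 hne2 (ca : F) (cb : F)
  rw [hneg] at e2
  simp only [List.map_cons, List.map_nil, List.prod_cons, List.prod_nil, mul_one, pow_one] at e2
  have h := congrArg (fun x => m * x) e1
  simp only [← mul_assoc] at h
  rw [(hb 1).1, (ha 1).1, mul_assoc _ m (T.xU F (T.simple i) 1), (ha 1).1, ← mul_assoc,
    mul_assoc (T.xU F (T.neg (T.simple i)) _) m (T.xU F (T.simple j) 1), (hb 1).1, ← mul_assoc,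
    mul_assoc _ m (T.xU F k _), (hc _).1, ← mul_assoc, mul_one, mul_one, e2] at h
  have h' := xU_inj hT (neg_lt' hrk) (mul_left_cancel (mul_right_cancel h))
  have hN0 : (N : F) ≠ 0 := by
    intro h0
    have h1 := congrArg (fun z : ℤ => (z : F)) hN
    simp [h0] at h1
  apply mul_left_cancel₀ hN0
  push_cast at h'
  linear_combination h'

/-- The case of an `A₂` with non-square scalars. -/
theorem step_a2 (h2 : Odd (Fintype.card F)) {m : GL T.I F} {w : Equiv.Perm (Fin T.n)}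
    (hm : m ∈ T.datum.monomialSubgroup F) (hm2 : m * m = 1) (hw : T.Mono m w) {i j k : ℕ}
    (hA : A2Data T i j k) (hi : w (T.simpF hT ⟨i, hA.hi⟩) = T.negF (T.simpF hT ⟨i, hA.hi⟩))
    (hj : w (T.simpF hT ⟨j, hA.hj⟩) = T.negF (T.simpF hT ⟨j, hA.hj⟩))
    (hk : w ⟨k, hA.hk⟩ = T.negF ⟨k, hA.hk⟩) {ca cc : Fˣ}
    (ha : Swaps T m (T.simple i) ca) (hc : Swaps T m k cc) {p q : Fˣ}
    (hp : (ca : F) = -((p : F) * p)) (hq : (cc : F) = -((q : F) * q))
    (hns : ∀ x : F, x * x ≠ -1) :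
    ∃ w' ∈ T.WP hT, negCount T w' < negCount T w ∧ ToMono T m w' := by
  classical
  have hra := simple_lt hT hA.hi
  have hrb := simple_lt hT hA.hj
  have hrk := hA.hk
  have hpa : T.half ≤ T.simple i := half_le_simpF hT ⟨i, hA.hi⟩
  have hpb : T.half ≤ T.simple j := half_le_simpF hT ⟨j, hA.hj⟩
  obtain ⟨a, b, hab⟩ : ∃ a b : F, a ^ 2 + b ^ 2 = -1 := by
    obtain ⟨q', hq'⟩ := CharP.exists F
    have := Fact.mk ((CharP.char_is_prime F q'))
    obtain ⟨a, b, h⟩ := CharP.sq_add_sq F q' (-1)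
    exact ⟨_, _, by simpa using h⟩
  set u : F := a / p with hu
  set v : F := b / q with hv
  have hpu : (p : F) * u = a := by rw [hu, mul_div_cancel₀ _ p.ne_zero]
  have hqv : (q : F) * v = b := by rw [hv, mul_div_cancel₀ _ q.ne_zero]
  have ha0 : a ≠ 0 := fun h => hns b (by rw [← hab, h]; ring)
  have hu0 : u ≠ 0 := fun h => ha0 (by rw [← hpu, h, mul_zero])
  have hD0 : 1 + v * (-(cc : F) * v) ≠ 0 := by
    rw [hq]
    intro h
    apply hns b
    rw [← hqv]; linear_combination h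
  set D : Fˣ := Units.mk0 _ hD0 with hDdef
  have hDu : (D : F) = -((p : F) * u) * ((p : F) * u) := by
    rw [hDdef, Units.val_mk0, hq]
    linear_combination (exp := 1) hab + (congrArg (fun z : F => z * z) hqv) + (congrArg (fun z : F => z * z) hpu)
  set P : F := -(ca : F) with hP
  set Q : F := -(cc : F) with hQ
  have hm1 : ∀ t, m * T.xU F (T.simple i) t = T.xU F (T.neg (T.simple i)) ((ca : F) * t) * m :=
    fun t => (ha t).1
  set x := T.xU F (T.simple i) u * T.xU F k v with hx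
  have hxG : x ∈ T.datum.group F := mul_mem (xU_mem_group hT hra _) (xU_mem_group hT hrk _)
  set g := x * m * x⁻¹ with hg
  have hgg : g * g = 1 := by
    rw [hg, show x * m * x⁻¹ * (x * m * x⁻¹) = x * (m * m) * x⁻¹ by group, hm2]
    group
  have e0 : g = T.xU F (T.simple i) u * (T.xU F k v * T.xU F (T.neg k) (Q * v)) *
      T.xU F (T.neg (T.simple i)) (P * u) * m := by
    rw [hg, hx, _root_.mul_inv_rev, xU_inv hT hra, xU_inv hT hrk, ← mul_assoc,
      mul_assoc _ m (T.xU F k (-v)), (hc _).1, ← mul_assoc,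
      mul_assoc _ m (T.xU F (T.simple i) (-u)), (ha _).1, ← mul_assoc, hP, hQ]
    simp only [mul_assoc, mul_neg, neg_mul]
  -- the commutator terms
  set V := T.rootGen F (fun r => r < T.half) with hV
  have hnb : T.neg (T.simple j) < T.half := neg_lt_half hT hpb hrb
  have hsw1 : ∀ a' s : F, ∃ L ∈ V,
      T.xU F (T.simple i) a' * T.xU F (T.neg k) s = L * T.xU F (T.simple i) a' := by
    intro a' s
    set Pw := ((T.commT (T.neg k) (T.simple i)).map fun c =>
      T.xU F c.1 ((c.2.1 : F) * (-s) ^ c.2.2.1 * a' ^ c.2.2.2)).prod with hPw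
    have hPwV : Pw ∈ T.rootGen F (fun r => r = T.neg (T.simple j)) := by
      refine list_prod_mem fun y hy => ?_
      obtain ⟨c, hc', rfl⟩ := List.mem_map.mp hy
      rw [hA.term1 c hc']
      exact xU_mem_rootGen (P := fun r => r = T.neg (T.simple j)) (neg_lt' hrb) rfl _
    have hcomm : T.xU F (T.simple i) a' * Pw = Pw * T.xU F (T.simple i) a' := by
      have hall : T.rootGen F (fun r => r = T.neg (T.simple j)) ≤
          Subgroup.centralizer {T.xU F (T.simple i) a'} := rootGen_le fun r hr h t => by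
        subst h
        rw [Subgroup.mem_centralizer_singleton_iff,
          comm_xU hT hC hr hra hA.ne2.2 hA.ne2.1 t a', hA.term2]
        simp
      exact (Subgroup.mem_centralizer_singleton_iff.mp (hall hPwV)).symm
    refine ⟨T.xU F (T.neg k) s * Pw, mul_mem
      (xU_mem_rootGen (P := fun r => r < T.half) (neg_lt' hrk) (neg_lt_half hT hA.pos hrk) _)
      (rootGen_mono (fun r _ h => by rw [h]; exact hnb) hPwV), ?_⟩
    rw [comm_xU hT hC (neg_lt' hrk) hra hA.ne1.2 hA.ne1.1 s a', ← hPw, mul_assoc, hcomm, ← mul_assoc]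
  have hsw2 : ∀ c' t : F, ∃ R ∈ T.rootGen F (fun r => r = k ∨ r = T.simple j),
      T.xU F k c' * T.xU F (T.neg (T.simple i)) t = T.xU F (T.neg (T.simple i)) t * R := by
    intro c' t
    refine ⟨T.xU F k c' * _, mul_mem (xU_mem_rootGen (P := fun r => r = k ∨ r = T.simple j) hrk
      (Or.inl rfl) _) (list_prod_mem fun y hy => ?_),
      (comm_xU hT hC (neg_lt' hra) hrk ?_ ?_ t c').trans (mul_assoc _ _ _)⟩
    · obtain ⟨c, hc', rfl⟩ := List.mem_map.mp hy
      exact xU_mem_rootGen (P := fun r => r = k ∨ r = T.simple j) (commT_lt hT (neg_lt' hra) hrk c hc')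
        (Or.inr (hA.term3 c hc')) _
    · exact fun e => hA.ne1.2 (by rw [e, neg_neg' hra])
    · intro e
      apply hA.ne1.1
      rw [neg_neg' hrk, e, neg_neg' hra]
  obtain ⟨L, hL, eL⟩ := hsw1 u ((Q * v) / D)
  obtain ⟨R, hR, eR⟩ := hsw2 (v / D) (P * u)
  set u1 : F := u / (D : F) with hu1
  have hu10 : u1 ≠ 0 := div_ne_zero hu0 D.ne_zero
  have hPu : P * u = -u1⁻¹ := by
    rw [hu1, inv_div, hP, hp, hDu]
    field_simp
  have eh : T.xU F (T.simple i) u * T.dU (T.hCh k D) =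
      T.dU (T.hCh k D) * T.xU F (T.simple i) u1 := by
    rw [dU_hCh_xU hT hrk D hra, hA.pair, zpow_one, hu1, mul_div_cancel₀ _ D.ne_zero]
  obtain ⟨hnN, hnm⟩ := nU_simple_facts (F := F) hT ⟨i, hA.hi⟩ (Units.mk0 u1 hu10)
  rw [Units.val_mk0] at hnN hnm
  have hd : T.dU (T.hCh k D) ∈ T.datum.diagonalSubgroup F := hCh_mem_diag hT hrk D
  set n := T.dU (T.hCh k D) * T.nU F (T.simple i) u1 * m with hn
  have hnN' : n ∈ T.datum.monomialSubgroup F := mul_mem (mul_mem (diag_le_N hT hd) hnN) hm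
  have hnm' : T.Mono n (T.refP hT ⟨i, hA.hi⟩ * w) := by
    have := ((mono_diag hT hd).mul hnm).mul hw
    rwa [one_mul] at this
  have hL' : m⁻¹ * (T.xU F (T.simple i) (-u1) * R) * m ∈ V := by
    have hinv : m⁻¹ = m := inv_eq_of_mul_eq_one_right hm2
    have h1 : m * (T.xU F (T.simple i) (-u1) * R) * m⁻¹ ∈ V := by
      refine conj_mem_rootGen hT hw (P := fun r => r = T.simple i ∨ r = k ∨ r = T.simple j)
        (fun s hs => ?_) (mul_mem (xU_mem_rootGen hra (Or.inl rfl) _)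
          (rootGen_mono (fun r _ h => Or.inr h) hR))
      rcases hs with h | h | h
      · rw [show s = T.simpF hT ⟨i, hA.hi⟩ from Fin.ext h, hi]
        exact negF_lt hpa
      · rw [show s = ⟨k, hrk⟩ from Fin.ext h, hk]
        exact negF_lt (s := ⟨k, hrk⟩) hA.pos
      · rw [show s = T.simpF hT ⟨j, hA.hj⟩ from Fin.ext h, hj]
        exact negF_lt hpb
    rw [hinv] at h1 ⊢
    exact h1
  have e : g = L * n * (m⁻¹ * (T.xU F (T.simple i) (-u1) * R) * m) := by
    rw [e0, x_y_swap hT hrk v (Q * v) D (by rw [hDdef, Units.val_mk0, hQ]), ← mul_assoc, ← mul_assoc,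
      eL, mul_assoc L, eh, mul_assoc _ (T.xU F k _) (T.xU F (T.neg (T.simple i)) _), eR, hPu, hn, nU]
    have hz : T.xU F (T.simple i) u1 * T.xU F (T.simple i) (-u1) = 1 := by
      rw [xU_add hT hra, add_neg_cancel, xU_zero hT hra]
    simp only [mul_assoc]
    rw [mul_inv_cancel_left, ← mul_assoc (T.xU F (T.simple i) u1) (T.xU F (T.simple i) (-u1)), hz,
      one_mul]
  obtain ⟨v', hv', hto⟩ := toMono_of_negCell hT hC h2 hgg hL hL' hnN' hnm' e
  have hwP := mono_mem_WP hT hm hw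
  refine ⟨_, mul_mem (mul_mem hv' (mul_mem (Subgroup.subset_closure ⟨_, rfl⟩) hwP)) (inv_mem hv'), ?_,
    ToMono.conj hxG hg.symm hto⟩
  rw [negCount_conj hT hv']
  refine negCount_refP_mul hT hwP ?_ hi
  have h1 := hw.mul hw
  rw [hm2] at h1
  exact h1.unique Mono.one

end CfsgLib.Chevalley.OddInvolution
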